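import Cfsg.Agent.H53.OmLow.Top
import Cfsg.Agent.Orthogonal.StdForms

/-!
Lower bounds for the degrees of the irreducible representations of the Omega groups.
-/

set_option autoImplicit false
set_option linter.unusedSectionVars false

namespace Cfsg.Agent.H53.OmLow

open QuadraticMap Module Finset
open Cfsg.Agent.Orthogonal

attribute [local instance] Fintype.ofFinite Classical.propDecidable

theorem finite_sie {F V : Type*} [Field F] [Finite F] [AddCommGroup V] [Module F V]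
    [FiniteDimensional F V] (Q : QuadraticForm F V) : Finite (sieGroup Q) :=
  have : Finite V := Module.finite_of_finite F
  Finite.of_injective (fun h => (ap h : V → V)) fun a b e =>
    Subtype.ext (Subtype.ext (LinearEquiv.ext (congrFun e)))

theorem three_sum_even {q : ℕ} (hq : 2 ≤ q) :
    ∀ m : ℕ, 3 * ∑ i ∈ range (m + 1), q ^ (2 * i) ≤ 4 * q ^ (2 * m) := by
  intro m
  induction m with
  | zero => simp
  | succ m ih =>
    have h4 : 4 * q ^ (2 * m) ≤ q ^ (2 * (m + 1)) := by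
      rw [show 2 * (m + 1) = 2 + 2 * m by ring, pow_add]
      exact Nat.mul_le_mul_right _ (by rw [pow_two]; nlinarith)
    rw [Finset.sum_range_succ]
    omega

theorem three_sum_odd {q : ℕ} (hq : 2 ≤ q) (m : ℕ) :
    3 * ∑ i ∈ range (m + 1), q ^ (2 * i + 1) ≤ 4 * q ^ (2 * m + 1) := by
  have h := Nat.mul_le_mul_right q (three_sum_even hq m)
  rw [mul_assoc, Finset.sum_mul, mul_assoc] at h
  simpa only [← pow_succ] using h

theorem sum_even_identity (q : ℕ) :
    ∀ m : ℕ, q ^ 2 * (∑ i ∈ range m, q ^ (2 * i)) + 1 = (∑ i ∈ range m, q ^ (2 * i)) + q ^ (2 * m) := by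
  intro m
  induction m with
  | zero => simp
  | succ m ih =>
    rw [Finset.sum_range_succ, Nat.mul_add, show q ^ 2 * q ^ (2 * m) = q ^ (2 * (m + 1)) by ring]
    omega

theorem sum_odd_identity (q m : ℕ) :
    q ^ 2 * (∑ i ∈ range m, q ^ (2 * i + 1)) + q =
      (∑ i ∈ range m, q ^ (2 * i + 1)) + q ^ (2 * m + 1) := by
  have h := congrArg (· * q) (sum_even_identity q m)
  simp only [add_mul, mul_assoc, Finset.sum_mul, one_mul, ← pow_succ] at h
  exact h

section

variable {F V : Type*} [Field F] [Finite F] [AddCommGroup V] [Module F V] [FiniteDimensional F V]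
variable {Q : QuadraticForm F V}

theorem sph_lower (p : HP Q) {k d A B : ℕ} (hT : HasType (restr Q p.W) k d)
    (hA : Nat.card F * A = Nat.card F ^ (2 * k + d)) (hB : Nat.card F * B = Nat.card F ^ (k + d))
    (c : F) : A ≤ (sph p c).card + 1 + B := by
  have h1 := zc_lower hT c
  have h2 := zc_le_sph p c
  have h3 : Nat.card F * A ≤ Nat.card F * (zc (restr Q p.W) c + B) := by
    rw [hA, Nat.mul_add, hB]; exact h1
  have := Nat.le_of_mul_le_mul_left h3 Nat.card_pos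
  omega

end

variable {F : Type*} [Field F] [Finite F]

theorem odd_bound (h2 : (2 : F) ≠ 0) (h3 : 3 < Nat.card F) (j : ℕ) {k : ℕ}
    (ρ : Representation ℂ (Cfsg.Omega F (Cfsg.quadFormOdd (j + 3) F)) (Fin k → ℂ))
    (hρ : ρ.IsIrreducible) (hk : 2 ≤ k) :
    ∑ i ∈ range (j + 3), Nat.card F ^ (2 * i) ≤ k := by
  set Q := formOdd F (j + 3) with hQdef
  have hQ : Nondeg Q := formOdd_nondeg F (j + 3) h2
  have hn : finrank F (Unit ⊕ (Fin (j + 3) ⊕ Fin (j + 3)) → F) = 2 * (j + 3) + 1 :=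
    finrank_formOdd F (j + 3)
  obtain ⟨ρ', hne⟩ := exists_rep Q hQ (by omega) (ρ : Representation ℂ (Cfsg.Omega F (⇑Q)) _) hρ hk
  have hf := formOdd_frame F (j + 3)
  have hT : HasType Q (j + 3) 1 :=
    ⟨_, _, hf, formOdd_aniso F (j + 3), by
      have := hf.finrank_kernel (Q := Q) hQ
      omega⟩
  obtain ⟨p, hTp⟩ := hT.exists_pair hQ
  have hd := hTp.finrank_eq (p.nd hQ)
  have hdim : finrank ℂ (Fin k → ℂ) = k := Module.finrank_fin_fun ℂ
  set q := Nat.card F with hq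
  have hS : 3 * ∑ i ∈ range (j + 3), q ^ (2 * i) ≤ 4 * q ^ (2 * (j + 2)) :=
    three_sum_even (by omega) (j + 2)
  rcases weight_cases ρ' hQ p (by omega) (Or.inl ⟨h3, Or.inr h2⟩) (hne p) with
    ⟨c₁, c₂, hc⟩ | H | ⟨hle, -⟩
  · have e1 := sph_lower p hTp (A := q ^ (2 * (j + 2))) (B := q ^ (j + 2)) (by ring) (by ring) c₁
    have e2 := sph_lower p hTp (A := q ^ (2 * (j + 2))) (B := q ^ (j + 2)) (by ring) (by ring) c₂
    have e3 : 16 * q ^ (j + 2) ≤ q ^ (2 * (j + 2)) := by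
      rw [two_mul, pow_add q (j + 2) (j + 2)]
      refine Nat.mul_le_mul_right _ ?_
      calc 16 = 4 ^ 2 := by norm_num
        _ ≤ q ^ 2 := Nat.pow_le_pow_left (by omega) 2
        _ ≤ q ^ (j + 2) := Nat.pow_le_pow_right (by omega) (by omega)
    have e4 : 1 ≤ q ^ (j + 2) := Nat.one_le_pow _ _ (by omega)
    omega
  · have := finite_sie Q
    obtain ⟨B⟩ := exists_invForm ρ'
    have := chain_odd h2 (j + 1) hQ ρ' B p H hTp
    simp only [show j + 1 + 2 = j + 3 from rfl, ← hq] at this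
    omega
  · omega

theorem plus_bound (h3 : 3 < Nat.card F) (j : ℕ) {k : ℕ}
    (ρ : Representation ℂ (Cfsg.Omega F (Cfsg.quadFormPlus (j + 4) F)) (Fin k → ℂ))
    (hρ : ρ.IsIrreducible) (hk : 2 ≤ k) :
    (∑ i ∈ range (j + 3), Nat.card F ^ (2 * i + 1)) + Nat.card F ^ (j + 3) ≤ k := by
  set Q := formPlus F (j + 4) with hQdef
  have hQ : Nondeg Q := formPlus_nondeg F (j + 4)
  have hn : finrank F (Fin (j + 4) ⊕ Fin (j + 4) → F) = 2 * (j + 4) := finrank_formPlus F (j + 4)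
  obtain ⟨ρ', hne⟩ := exists_rep Q hQ (by omega) (ρ : Representation ℂ (Cfsg.Omega F (⇑Q)) _) hρ hk
  have hf := formPlus_frame F (j + 4)
  have hT : HasType Q (j + 4) 0 :=
    ⟨_, _, hf, formPlus_aniso F (j + 4), by
      have := hf.finrank_kernel (Q := Q) hQ
      omega⟩
  obtain ⟨p, hTp⟩ := hT.exists_pair hQ
  have hd := hTp.finrank_eq (p.nd hQ)
  have hdim : finrank ℂ (Fin k → ℂ) = k := Module.finrank_fin_fun ℂ
  set q := Nat.card F with hq
  have hS : 3 * ∑ i ∈ range (j + 3), q ^ (2 * i + 1) ≤ 4 * q ^ (2 * (j + 2) + 1) :=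
    three_sum_odd (by omega) (j + 2)
  rcases weight_cases ρ' hQ p (by omega) (Or.inl ⟨h3, Or.inl (by omega)⟩) (hne p) with
    ⟨c₁, c₂, hc⟩ | H | ⟨hle, -⟩
  · have e1 := sph_lower p hTp (A := q ^ (2 * (j + 2) + 1)) (B := q ^ (j + 2)) (by ring) (by ring) c₁
    have e2 := sph_lower p hTp (A := q ^ (2 * (j + 2) + 1)) (B := q ^ (j + 2)) (by ring) (by ring) c₂
    have e3 : 16 * q ^ (j + 3) ≤ q ^ (2 * (j + 2) + 1) := by
      rw [show 2 * (j + 2) + 1 = (j + 2) + (j + 3) by ring, pow_add q (j + 2) (j + 3)]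
      refine Nat.mul_le_mul_right _ ?_
      calc 16 = 4 ^ 2 := by norm_num
        _ ≤ q ^ 2 := Nat.pow_le_pow_left (by omega) 2
        _ ≤ q ^ (j + 2) := Nat.pow_le_pow_right (by omega) (by omega)
    have e4 : 1 ≤ q ^ (j + 2) := Nat.one_le_pow _ _ (by omega)
    have e5 : q ^ (j + 2) ≤ q ^ (j + 3) := Nat.pow_le_pow_right (by omega) (by omega)
    omega
  · have := finite_sie Q
    obtain ⟨B⟩ := exists_invForm ρ'
    have := chain_plus (show 3 ≤ Nat.card F by omega) (j + 1) hQ ρ' B p H hTp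
    simp only [show j + 1 + 2 = j + 3 from rfl, ← hq] at this
    omega
  · omega

theorem minus_bound {a b : F}
    (hab : ∀ z₁ z₂ : F, z₁ ^ 2 + a * z₁ * z₂ + b * z₂ ^ 2 = 0 → z₁ = 0 ∧ z₂ = 0) (j : ℕ) {k : ℕ}
    (ρ : Representation ℂ (Cfsg.Omega F (Cfsg.quadFormMinus (j + 3) F a b)) (Fin k → ℂ))
    (hρ : ρ.IsIrreducible) (hk : 2 ≤ k) :
    ∑ i ∈ range (j + 3), Nat.card F ^ (2 * i + 1) ≤ k + Nat.card F ^ (j + 3) := by
  set Q := formMinus F (j + 3) a b with hQdef
  have hQ : Nondeg Q := formMinus_nondeg (j + 3) hab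
  have hn : finrank F ((Fin (j + 3) ⊕ Fin (j + 3)) ⊕ Fin 2 → F) = 2 * (j + 3 + 1) :=
    finrank_formMinus F (j + 3)
  obtain ⟨ρ', hne⟩ := exists_rep Q hQ (by omega) (ρ : Representation ℂ (Cfsg.Omega F (⇑Q)) _) hρ hk
  have hf := formMinus_frame F (j + 3) a b
  have hT : HasType Q (j + 3) 2 :=
    ⟨_, _, hf, formMinus_aniso F (j + 3) hab, by
      have := hf.finrank_kernel (Q := Q) hQ
      omega⟩
  obtain ⟨p, hTp⟩ := hT.exists_pair hQ
  have hd := hTp.finrank_eq (p.nd hQ)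
  have hdim : finrank ℂ (Fin k → ℂ) = k := Module.finrank_fin_fun ℂ
  set q := Nat.card F with hq
  have hq2 : 2 ≤ q := Finite.one_lt_card
  have hS : 3 * ∑ i ∈ range (j + 3), q ^ (2 * i + 1) ≤ 4 * q ^ (2 * (j + 2) + 1) :=
    three_sum_odd hq2 (j + 2)
  have hcase : (3 < Nat.card F ∧ (6 ≤ finrank F p.W ∨ (2 : F) ≠ 0)) ∨ 7 ≤ finrank F p.W ∨
      HasType (restr Q p.W) 2 2 := by
    rcases Nat.eq_zero_or_pos j with rfl | hj
    · exact Or.inr (Or.inr hTp)
    · exact Or.inr (Or.inl (by omega))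
  rcases weight_cases ρ' hQ p (by omega) hcase (hne p) with
    ⟨c₁, c₂, hc⟩ | H | ⟨-, c, hc0, hle, HW⟩
  · have e1 := sph_lower p hTp (A := q ^ (2 * (j + 2) + 1)) (B := q ^ (j + 3)) (by ring) (by ring) c₁
    have e2 := sph_lower p hTp (A := q ^ (2 * (j + 2) + 1)) (B := q ^ (j + 3)) (by ring) (by ring) c₂
    have e3 : 4 * q ^ (j + 3) ≤ q ^ (2 * (j + 2) + 1) := by
      rw [show 2 * (j + 2) + 1 = (j + 2) + (j + 3) by ring, pow_add q (j + 2) (j + 3)]
      refine Nat.mul_le_mul_right _ ?_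
      calc 4 = 2 ^ 2 := by norm_num
        _ ≤ q ^ 2 := Nat.pow_le_pow_left hq2 2
        _ ≤ q ^ (j + 2) := Nat.pow_le_pow_right (by omega) (by omega)
    have e4 : 8 ≤ q ^ (j + 3) :=
      calc 8 = 2 ^ 3 := by norm_num
        _ ≤ q ^ 3 := Nat.pow_le_pow_left hq2 3
        _ ≤ q ^ (j + 3) := Nat.pow_le_pow_right (by omega) (by omega)
    omega
  · have := finite_sie Q
    obtain ⟨B⟩ := exists_invForm ρ'
    have := chain_minus (j + 2) hQ ρ' B p H hTp
    simp only [show j + 2 + 1 = j + 3 from rfl, ← hq] at this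
    omega
  · rcases Nat.eq_zero_or_pos j with rfl | hj
    · have hz : q * zc (restr Q p.W) c + q ^ 4 = q ^ 6 + q ^ 3 * (q + 1) :=
        zc_sphere_minus (p.nd hQ) hTp hc0
      have hz' : zc (restr Q p.W) c = q ^ 5 + q ^ 2 :=
        Nat.eq_of_mul_eq_mul_left (show 0 < q by omega) (by ring_nf at hz ⊢; omega)
      have hs := sph_add p c
      rw [if_neg hc0, add_zero] at hs
      have e1 : q ≤ q ^ 2 := Nat.le_self_pow (by norm_num) q
      simp only [Nat.zero_add, Finset.sum_range_succ, Finset.sum_range_zero, Nat.reduceMul,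
        Nat.reduceAdd, pow_one]
      omega
    · have := chain_sphere (j + 2) hQ ρ' p c hc0 (HW (by omega)) hTp
      simp only [show j + 2 + 1 = j + 3 from rfl, ← hq] at this
      omega

end Cfsg.Agent.H53.OmLow
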