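import Cfsg.Agent.H53.OmLow.Phi

/-!
The smallest case of plus type: new vectors in the fixed space of a four dimensional orthogonal.
-/

set_option autoImplicit false
set_option linter.unusedSectionVars false

namespace Cfsg.Agent.H53.OmLow

open QuadraticMap Module Finset
open Cfsg.Agent.Orthogonal

attribute [local instance] Fintype.ofFinite Classical.propDecidable

variable {F V : Type*} [Field F] [Finite F] [AddCommGroup V] [Module F V] [FiniteDimensional F V]
variable {Q : QuadraticForm F V}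
variable {M : Type*} [AddCommGroup M] [Module ℂ M] {ρ : Representation ℂ (sieGroup Q) M}
variable (hQ : Nondeg Q) {p : HP Q} {p' : HP (restr Q p.W)}

/-- The singular vectors of the second orthogonal lie on the two lines. -/
def TwoLines (p'' : HP (restr (restr Q p.W) p'.W)) : Prop :=
  ∀ w : p'.W, Q ((w : p.W) : V) = 0 → (∃ x : F, w = x • p''.e) ∨ ∃ x : F, w = x • p''.f

theorem TwoLines.swap {p'' : HP (restr (restr Q p.W) p'.W)} (h : TwoLines p'') :
    TwoLines p''.swap := fun w hw => (h w hw).symm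

theorem twoLines_of_finrank (hQ : Nondeg Q) (p'' : HP (restr (restr Q p.W) p'.W))
    (h2 : finrank F p'.W = 2) : TwoLines p'' := by
  intro w hw
  have h0 : finrank F p''.W = 0 := by
    have := p''.finrank_W (p'.nd (p.nd hQ))
    omega
  have hr := p''.split w
  rw [Submodule.finrank_eq_zero.1 h0, Submodule.mem_bot, sub_sub, sub_eq_zero] at hr
  set A := polar (restr (restr Q p.W) p'.W) p''.f w
  set B := polar (restr (restr Q p.W) p'.W) p''.e w
  have hq : restr (restr Q p.W) p'.W w = 0 := hw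
  rw [hr, map_add_polar, qmap_smul, qmap_smul, polar_smul_left', polar_smul_right', p''.he, p''.hf,
    p''.hef] at hq
  simp only [mul_zero, zero_add, mul_one, mul_eq_zero] at hq
  rcases hq with h | h <;> rw [h, zero_smul] at hr
  · exact Or.inr ⟨B, by rwa [zero_add] at hr⟩
  · exact Or.inl ⟨A, by rwa [add_zero] at hr⟩

theorem ip_xr (B : InvForm ρ) (p : HP Q) (hQ : Nondeg Q) (w : p.W) (z : M) :
    B.ip z (ρ (xr p w) z) = ∑ u, chi p u w * B.ip (wP ρ p u z) (wP ρ p u z) := by
  conv_lhs => enter [2]; rw [← sum_wP_apply ρ p hQ z]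
  rw [map_sum, map_sum]
  refine Finset.sum_congr rfl fun u _ => ?_
  rw [xr_mul_wP_apply, map_smul, smul_eq_mul, ip_wP, wP_idem_apply]

include hQ

set_option maxHeartbeats 2000000 in
theorem exists_new (B : InvForm ρ) (H : HypS ρ hQ p) (p'' : HP (restr (restr Q p.W) p'.W))
    (hL : TwoLines p'') :
    ∃ Wc : Cs ρ p,
      (∀ u, wP (cRep ρ hQ p) p' u Wc ≠ 0 → ∃ x : F, x ≠ 0 ∧ u = x • p''.e) ∧
      wP (cRep ρ hQ p) p' 0 (cRep ρ hQ p (p'.gg p'') Wc) ≠ 0 := by
  set σ := cRep ρ hQ p
  set n1 := p'.gg p''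
  set g := p.gg p'
  set a : p.W := p'.e
  set c : p.W := ((p''.e : p'.W) : p.W)
  have hc0 : c ≠ 0 := fun e => p''.e_ne (Subtype.ext e)
  have hQc : Q (c : V) = 0 := p''.he
  have hac : polar Q (a : V) (c : V) = 0 := polar_W' p p' p''.e
  obtain ⟨z0, hz0⟩ := H.ne c hc0 hQc
  set x0 := orbSum hQ ρ p (wP ρ p c z0) with hx0
  have hxfix : HFix hQ ρ p x0 := orbSum_hfix hQ _
  have hc1 : wP ρ p c x0 ≠ 0 := wP_orbSum_self_ne hQ H hc0 hQc hz0
  -- the pieces
  let uu : F → F → p.W := fun γ x => γ • c + x • a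
  let m : F → M := fun γ => ∑ x : F, wP ρ p (uu γ x) x0
  let G : Finset F := Finset.univ.erase 0
  have huu : ∀ γ x γ' x', uu γ x = uu γ' x' → γ = γ' ∧ x = x' := by
    intro γ x γ' x' e
    have e1 := congrArg (fun v : p.W => polar Q (v : V) (((p''.f : p'.W) : p.W) : V)) e
    have e2 := congrArg (fun v : p.W => polar Q (v : V) (p'.f : V)) e
    have hcd : polar Q (c : V) (((p''.f : p'.W) : p.W) : V) = 1 := by
      have := p''.hef; rwa [polar_restr, polar_restr] at this
    have hab : polar Q (a : V) (p'.f : V) = 1 := by rw [← polar_restr]; exact p'.hef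
    have had : polar Q (a : V) (((p''.f : p'.W) : p.W) : V) = 0 := polar_W' p p' p''.f
    have hcb : polar Q (c : V) (p'.f : V) = 0 := by rw [← polar_restr]; exact p'.w_f p''.e
    simp only [uu, Submodule.coe_add, Submodule.coe_smul, polar_add_left, polar_smul_left', hcd, hab,
      had, hcb, mul_one, mul_zero, add_zero, zero_add] at e1 e2
    exact ⟨e1, e2⟩
  have hsupp : ∀ γ u, wP ρ p u (m γ) ≠ 0 → ∃ x : F, u = uu γ x := by
    intro γ u hu
    by_contra hne
    push Not at hne
    refine hu ?_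
    rw [map_sum]
    exact Finset.sum_eq_zero fun x _ => wP_apply_ne ρ p hQ (hne x) _
  have hfix : ∀ γ (t : p'.W),
      ρ (sg (p'.e : V) ((t : p.W) : V) (HP.qa p') (polar_W' p p' t)) (m γ) = m γ := by
    intro γ t
    set k := xr p' t
    have ek : sg (p'.e : V) ((t : p.W) : V) (HP.qa p') (polar_W' p p' t) = emb hQ p k :=
      (emb_sg hQ p p'.he (p'.e_w t)).symm
    rw [ek]
    simp only [m, map_sum]
    have hku : ∀ x, apW k (uu γ x) = uu γ (x + γ * polar Q ((t : p.W) : V) (c : V)) := fun x => by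
      show ((sie p'.e (t : p.W) p'.he (p'.e_w t) : O (restr Q p.W)) : p.W ≃ₗ[F] p.W) (uu γ x) = _
      rw [sie_app]
      have e1 : polar (restr Q p.W) p'.e (uu γ x) = 0 := by
        rw [polar_restr]
        simp only [uu, Submodule.coe_add, Submodule.coe_smul, polar_add_right, polar_smul_right']
        rw [hac, polar_self', HP.qa p']; ring
      have e2 : polar (restr Q p.W) (t : p.W) (uu γ x) = γ * polar Q ((t : p.W) : V) (c : V) := by
        rw [polar_restr]
        simp only [uu, Submodule.coe_add, Submodule.coe_smul, polar_add_right, polar_smul_right']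
        rw [polar_comm (⇑Q) ((t : p.W) : V) (a : V), polar_W' p p' t, mul_zero, add_zero]
      rw [e1, e2, mul_zero, sub_zero, zero_smul, sub_zero]
      simp only [uu, add_smul, a]
      abel
    refine Fintype.sum_equiv (Equiv.addRight (γ * polar Q ((t : p.W) : V) (c : V))) _ _ fun x => ?_
    rw [Equiv.coe_addRight, ← hxfix.wP_map hQ k, hku]
  have hstab : ∀ (x : F) (t : p'.W) (z : M), x ≠ 0 →
      ρ (sg (p'.e : V) ((t : p.W) : V) (HP.qa p') (polar_W' p p' t)) (wP ρ p (x • p'.e) z) =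
        wP ρ p (x • p'.e) z := fun x t z hx =>
    H.stabE _ (smul_ne_zero hx p'.e_ne) p'.e (t : p.W) _ _
      (by rw [Submodule.coe_smul, polar_smul_right', polar_self', HP.qa p']; ring)
      (by rw [Submodule.coe_smul, polar_smul_right', polar_comm, polar_W' p p' t, mul_zero]) z
  have hsupp' : ∀ γ u, wP ρ p u (m γ) ≠ 0 → ∃ x : F, u = ((γ • p''.e : p'.W) : p.W) + x • p'.e :=
    hsupp
  have hfwd := fun (γ : F) (hγ : γ ∈ G) => inherit_fwd ρ hQ p p' (w := γ • p''.e)
    (smul_ne_zero (Finset.ne_of_mem_erase hγ) p''.e_ne) hstab (hsupp' γ) (hfix γ)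
  set X := ∑ γ ∈ G, m γ with hX
  have hXC : ρ g X ∈ Cs ρ p := by
    rw [hX, map_sum]
    exact Submodule.sum_mem _ fun γ hγ => (hfwd γ hγ).1
  refine ⟨⟨ρ g X, hXC⟩, fun u hu => ?_, fun h0 => ?_⟩
  · by_contra hne
    push Not at hne
    refine hu ?_
    have e : (⟨ρ g X, hXC⟩ : Cs ρ p) = ∑ γ ∈ G.attach, ⟨_, (hfwd γ.1 γ.2).1⟩ := by
      refine Subtype.ext ?_
      rw [Submodule.coe_sum]
      show ρ g X = ∑ γ ∈ G.attach, ρ g (m γ.1)
      rw [Finset.sum_attach G (fun γ => ρ g (m γ)), ← map_sum]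
    rw [e, map_sum]
    refine Finset.sum_eq_zero fun γ _ => ?_
    have h1 := wP_eq_self_of_eigen σ p' _ (hfwd γ.1 γ.2).2
    rw [← h1]
    exact wP_apply_ne σ p' (p.nd hQ) (hne γ.1 (Finset.ne_of_mem_erase γ.2)) _
  -- now derive a contradiction
  set Wc : Cs ρ p := ⟨ρ g X, hXC⟩
  set v := σ n1 Wc
  have hvsupp : ∀ u, wP σ p' u v ≠ 0 → ∃ x : F, x ≠ 0 ∧ u = x • p''.e := by
    intro u hu
    have hu0 : u ≠ 0 := fun e => hu (e ▸ h0)
    have hQu : Q ((u : p.W) : V) = 0 := by
      by_contra hne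
      exact hu ((H.next hQ p').zero u hu0 hne v)
    rcases hL u hQu with ⟨x, hx⟩ | ⟨x, hx⟩
    · exact ⟨x, fun e => hu0 (by rw [hx, e, zero_smul]), hx⟩
    exfalso
    have hx0 : x ≠ 0 := fun e => hu0 (by rw [hx, e, zero_smul])
    have hfixc : ∀ s : F, σ (xr p' (s • p''.e)) v = v := fun s => by
      show σ (xr p' (s • p''.e)) (σ n1 Wc) = σ n1 Wc
      rw [← Module.End.mul_apply, ← map_mul, ← (gg_commute_line p'' s).eq, map_mul,
        Module.End.mul_apply]
      congr 1
      refine Subtype.ext ?_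
      rw [cRep_xr]
      show ρ _ (ρ g X) = ρ g X
      rw [← Module.End.mul_apply, ← map_mul,
        inv_conj_sg _ _ g (u' := p.e) (w' := (((s • p''.e : p'.W) : p.W) : V)) (gg_e p p') (gg_fix p p' _),
        map_mul, Module.End.mul_apply]
      congr 1
      show ρ (xr p ((s • p''.e : p'.W) : p.W)) X = X
      refine fixed_of_components (p := p) hQ fun w hw => ?_
      rw [xr_mul_wP_apply]
      obtain ⟨γ, -, hγ⟩ : ∃ γ ∈ G, wP ρ p w (m γ) ≠ 0 := by
        by_contra hne; push Not at hne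
        exact hw (by rw [hX, map_sum]; exact Finset.sum_eq_zero hne)
      obtain ⟨y, rfl⟩ := hsupp γ w hγ
      rw [chi_apply, show polar Q ((uu γ y : p.W) : V) (((s • p''.e : p'.W) : p.W) : V) = 0 from ?_,
        AddChar.map_zero_eq_one, one_smul]
      simp only [uu, Submodule.coe_add, Submodule.coe_smul, polar_add_left, polar_smul_left',
        polar_smul_right']
      show s * (γ * polar Q (c : V) (c : V) + y * polar Q (a : V) (c : V)) = 0
      rw [polar_self', hQc, hac]; ring
    have := polar_eq_zero_of_fixed σ p' (w := p''.e) hfixc hu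
    rw [polar_restr, hx] at this
    simp only [Submodule.coe_smul, polar_smul_left'] at this
    have hdc := p''.hfe
    rw [polar_restr, polar_restr] at hdc
    rw [hdc, mul_one] at this
    exact hx0 this
  set X' := ρ g⁻¹ (v : M)
  have hback : ∀ u, wP σ p' u v ≠ 0 →
      (∀ w, wP ρ p w (ρ g⁻¹ (wP σ p' u v : M)) ≠ 0 → ∃ x : F, w = (u : p.W) + x • p'.e) ∧
      ∀ t : p'.W, ρ (sg (p'.e : V) ((t : p.W) : V) (HP.qa p') (polar_W' p p' t))
        (ρ g⁻¹ (wP σ p' u v : M)) = ρ g⁻¹ (wP σ p' u v : M) := fun u _ =>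
    inherit_back ρ hQ p p' _ (wP_eigen_of_Cs hQ p' u v)
  have hvsum : X' = ∑ u, ρ g⁻¹ (wP σ p' u v : M) := by
    rw [← map_sum, ← Submodule.coe_sum, sum_wP_apply σ p' (p.nd hQ)]
  have hX'fix : ∀ t : p'.W,
      ρ (sg (p'.e : V) ((t : p.W) : V) (HP.qa p') (polar_W' p p' t)) X' = X' := fun t => by
    rw [hvsum, map_sum]
    refine Finset.sum_congr rfl fun u _ => ?_
    by_cases hu : wP σ p' u v = 0
    · rw [hu, Submodule.coe_zero, map_zero, map_zero]
    · exact (hback u hu).2 t
  have hX'supp : ∀ w, wP ρ p w X' ≠ 0 → ∃ γ ∈ G, ∃ x, w = uu γ x := by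
    intro w hw
    rw [hvsum, map_sum] at hw
    obtain ⟨u, -, hu⟩ := Finset.exists_ne_zero_of_sum_ne_zero hw
    have hu' : wP σ p' u v ≠ 0 := fun e => hu (by rw [e, Submodule.coe_zero, map_zero, map_zero])
    obtain ⟨γ, hγ, rfl⟩ := hvsupp u hu'
    obtain ⟨x, hx⟩ := (hback _ hu').1 w hu
    exact ⟨γ, Finset.mem_erase.2 ⟨hγ, Finset.mem_univ _⟩, x, hx⟩
  -- the exchanged coefficient vanishes
  have hzero : B.ip X' (ρ (xr p p'.f) X') = 0 := by
    rw [ip_xr B p hQ]
    set n := fun w => B.ip (wP ρ p w X') (wP ρ p w X')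
    have hn : ∀ γ ∈ G, ∀ x, n (uu γ x) = n (uu γ 0) := by
      intro γ hγ x
      have hd : polar Q (((p''.f : p'.W) : p.W) : V) (c : V) = 1 := by
        have := p''.hfe; rwa [polar_restr, polar_restr] at this
      set t : p'.W := (x / γ) • p''.f
      set k := xr p' t
      have hku : apW k (uu γ 0) = uu γ x := by
        show ((sie p'.e (t : p.W) p'.he (p'.e_w t) : O (restr Q p.W)) : p.W ≃ₗ[F] p.W) (uu γ 0) = _
        rw [sie_app]
        have e1 : polar (restr Q p.W) p'.e (uu γ 0) = 0 := by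
          rw [polar_restr]
          simp only [uu, Submodule.coe_add, Submodule.coe_smul, polar_add_right, polar_smul_right']
          rw [hac]; ring
        have e2 : polar (restr Q p.W) (t : p.W) (uu γ 0) = x := by
          rw [polar_restr]
          simp only [uu, t, Submodule.coe_add, Submodule.coe_smul, polar_add_right, polar_smul_right',
            polar_smul_left', zero_mul, add_zero]
          rw [hd, mul_one, mul_comm, div_mul_cancel₀ x (Finset.ne_of_mem_erase hγ)]
        rw [e1, e2, mul_zero, sub_zero, zero_smul, sub_zero]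
        simp only [uu, zero_smul, add_zero, a]
      have hk := hX'fix t
      rw [show sg (p'.e : V) ((t : p.W) : V) (HP.qa p') (polar_W' p p' t) = emb hQ p k from
        (emb_sg hQ p p'.he (p'.e_w t)).symm] at hk
      show B.ip _ _ = B.ip _ _
      conv_lhs => rw [← hk, ← hku]
      rw [show wP ρ p (apW k (uu γ 0)) (ρ (emb hQ p k) X') = ρ (emb hQ p k) (wP ρ p (uu γ 0) X') from
        (LinearMap.congr_fun (emb_conj_wP ρ p hQ k (uu γ 0)) X').symm, B.inv]
    have himg : ∀ w, w ∉ (G ×ˢ (Finset.univ : Finset F)).image (fun q => uu q.1 q.2) →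
        chi p w p'.f * n w = 0 := by
      intro w hw
      have h1 : wP ρ p w X' = 0 := by
        by_contra hne
        obtain ⟨γ, hγ, x, rfl⟩ := hX'supp w hne
        exact hw (Finset.mem_image.2 ⟨(γ, x), Finset.mem_product.2 ⟨hγ, Finset.mem_univ _⟩, rfl⟩)
      simp [n, h1]
    rw [← Finset.sum_subset (Finset.subset_univ ((G ×ˢ (Finset.univ : Finset F)).image fun q => uu q.1 q.2))
      (fun w _ hw => himg w hw), Finset.sum_image (fun q _ q' _ e => Prod.ext (huu _ _ _ _ e).1 (huu _ _ _ _ e).2),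
      Finset.sum_product]
    refine Finset.sum_eq_zero fun γ hγ => ?_
    have hab : polar Q (a : V) (p'.f : V) = 1 := by rw [← polar_restr]; exact p'.hef
    have hcb : polar Q (c : V) (p'.f : V) = 0 := by rw [← polar_restr]; exact p'.w_f p''.e
    have hchi : ∀ x, chi p (uu γ x) p'.f = Symplectic.eChar F x := fun x => by
      rw [chi_apply]
      simp only [uu, Submodule.coe_add, Submodule.coe_smul, polar_add_left, polar_smul_left', hab,
        hcb, mul_zero, zero_add, mul_one]
    simp only [hchi, hn γ hγ, ← Finset.sum_mul]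
    obtain ⟨s, hs⟩ := Symplectic.eChar_exists_ne (one_ne_zero (α := F))
    rw [show ∑ x, Symplectic.eChar F x = 0 from AddChar.sum_eq_zero_of_ne_one
      (AddChar.ne_one_iff.2 ⟨s, by rwa [one_mul] at hs⟩), zero_mul]
  -- but it is positive before the exchange
  set n' := g⁻¹ * emb hQ p n1 * g
  have hX'eq : X' = ρ n' X := by
    show ρ g⁻¹ (σ n1 Wc : M) = _
    rw [cRep_apply, map_mul, map_mul, Module.End.mul_apply, Module.End.mul_apply]
  have hkq : restr Q p.W (-c) = 0 := by rw [QuadraticMap.map_neg]; exact p''.he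
  have hkw : polar (restr Q p.W) (-c) p'.f = 0 := by rw [polar_neg_left, p'.w_f p''.e, neg_zero]
  set k := sg (-c) p'.f hkq hkw
  have hu' : ap n' (-(c : V)) = p.e := by
    have h1 : ap g (-(c : V)) = -(c : V) := by rw [map_neg]; exact congrArg _ (gg_fix p p' p''.e)
    have h2 : ap (emb hQ p n1) (-(c : V)) = (a : V) := by
      rw [map_neg, emb_app]
      have := gEl_e' (p'.orth_lift p'')
      show -((apW n1 c : p.W) : V) = _
      rw [show apW n1 c = -p'.e from this, Submodule.coe_neg, neg_neg]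
    rw [ap_mul, ap_mul, h1, h2]
    exact inv_app (gg_e p p')
  have hw' : ap n' (p'.f : V) = (p'.f : V) := by
    have h1 : ap g (p'.f : V) = -p.f := gg_b p p'
    have h2 : ap (emb hQ p n1) (-p.f) = -p.f := by rw [map_neg, emb_f]
    rw [ap_mul, ap_mul, h1, h2]
    exact inv_app h1
  rw [hX'eq, ← Module.End.mul_apply (ρ (xr p p'.f)), ← map_mul, xr,
    inv_conj_sg _ _ n' hu' hw', map_mul ρ n', Module.End.mul_apply, B.inv] at hzero
  have hkX : ∀ w, wP ρ p w X = if ∃ γ ∈ G, ∃ x, w = uu γ x then wP ρ p w x0 else 0 := by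
    intro w
    split_ifs with hw
    · obtain ⟨γ, hγ, x, rfl⟩ := hw
      rw [hX, map_sum, Finset.sum_eq_single γ (fun γ' _ hne => ?_) (fun h => absurd hγ h), map_sum,
        Finset.sum_eq_single x (fun x' _ hne => ?_) (by simp), wP_idem_apply]
      · exact wP_apply_ne ρ p hQ (fun e => hne (huu _ _ _ _ e).2.symm) _
      · rw [map_sum]
        exact Finset.sum_eq_zero fun x' _ => wP_apply_ne ρ p hQ
          (fun e => hne (huu _ _ _ _ e).1.symm) _
    · by_contra hne
      rw [hX, map_sum] at hne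
      obtain ⟨γ, hγ, h1⟩ := Finset.exists_ne_zero_of_sum_ne_zero hne
      obtain ⟨x, hx⟩ := hsupp γ w h1
      exact hw ⟨γ, hγ, x, hx⟩
  have hpos : 0 < (B.ip X (ρ (emb hQ p k) X)).re := by
    have e : B.ip X (ρ (emb hQ p k) X) = ∑ u, B.ip (wP ρ p (apW k u) X) (ρ (emb hQ p k) (wP ρ p u X)) := by
      conv_lhs => enter [2]; rw [← sum_wP_apply ρ p hQ X, map_sum]
      rw [map_sum]
      refine Finset.sum_congr rfl fun u _ => ?_
      rw [ip_wP]
      congr 1
      have e := LinearMap.congr_fun (emb_conj_wP ρ p hQ k u) X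
      rw [Module.End.mul_apply, Module.End.mul_apply] at e
      rw [e, wP_idem_apply]
    rw [e, Complex.re_sum]
    refine Finset.sum_pos' (fun u _ => ?_) ⟨c, Finset.mem_univ _, ?_⟩
    · rw [hkX u, hkX (apW k u)]
      split_ifs
      · rw [← hxfix.wP_map hQ k u]; exact B.nsq_nonneg _
      all_goals simp
    · have hkc : apW k c = c := by
        refine sie_fix' hkq hkw ?_ ?_
        · rw [polar_neg_left, polar_self', show restr Q p.W c = 0 from hQc]; ring
        · rw [polar_restr, polar_comm, ← polar_restr]; exact p'.w_f p''.e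
      have hmem : ∃ γ ∈ G, ∃ x, c = uu γ x :=
        ⟨1, Finset.mem_erase.2 ⟨one_ne_zero, Finset.mem_univ _⟩, 0, by simp [uu]⟩
      rw [hkc, hkX c, if_pos hmem, ← hxfix.wP_map hQ k c, hkc]
      exact B.nsq_pos hc1
  have ek : emb hQ p k = sg (-(c : V)) (p'.f : V) (by rw [QuadraticMap.map_neg]; exact hQc)
      (by rw [polar_neg_left, ← polar_restr, p'.w_f p''.e, neg_zero]) := by
    exact (emb_sg hQ p hkq hkw).trans (sg_congr (Submodule.coe_neg _ _) rfl)
  rw [ek] at hpos
  rw [hzero] at hpos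
  exact lt_irrefl _ hpos


/-- The weights on the second line are fixed by the first exchanging element. -/
theorem fixed_line (H : HypS ρ hQ p) (p'' : HP (restr (restr Q p.W) p'.W)) (hL : TwoLines p'')
    (z : Cs ρ p) {β : F} (hβ : β ≠ 0) :
    cRep ρ hQ p (p'.gg p'') (wP (cRep ρ hQ p) p' (β • p''.f) z) =
      wP (cRep ρ hQ p) p' (β • p''.f) z := by
  set σ := cRep ρ hQ p
  set n1 := p'.gg p'' with hn1
  set u := β • p''.f
  set y := wP σ p' u z
  have hdd : ∀ s : F, polar Q ((u : p.W) : V) (((s • p''.f : p'.W) : p.W) : V) = 0 := fun s => by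
    rw [← polar_restr, ← polar_restr, polar_smul_left', polar_smul_right', polar_self', p''.hf]
    ring
  have hU : ∀ (w : p'.W) (s : F), (∃ x : F, w = x • p''.f) → ∀ z', σ (xr p' (s • p''.f))
      (wP σ p' w z') = wP σ p' w z' := by
    rintro w s ⟨x, rfl⟩ z'
    have hz : polar Q (((x • p''.f : p'.W) : p.W) : V) (((s • p''.f : p'.W) : p.W) : V) = 0 := by
      rw [← polar_restr, ← polar_restr, polar_smul_left', polar_smul_right', polar_self', p''.hf]
      ring
    rw [xr_mul_wP_apply, chi_apply, polar_restr, hz, AddChar.map_zero_eq_one, one_smul]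
  set y' := σ n1⁻¹ y
  have hy' : ∀ w, wP σ p' w y' ≠ 0 → ∃ x : F, w = x • p''.f := by
    intro w hw
    have heig : ∀ s : F, σ (xr p' (s • p''.e)) y' = chi p' u (s • p''.e) • y' := fun s => by
      rw [← Module.End.mul_apply, ← map_mul, ← ((gg_commute_line p'' s).inv_left).eq, map_mul,
        Module.End.mul_apply, xr_mul_wP_apply, map_smul]
    have hp := polar_eq_of_eigen σ p' (v := u) (w := p''.e) heig hw
    rw [polar_restr, polar_restr] at hp
    have hue : polar Q ((u : p.W) : V) (((p''.e : p'.W) : p.W) : V) = β := by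
      rw [← polar_restr, ← polar_restr, polar_smul_left', p''.hfe, mul_one]
    rw [hue] at hp
    have hw0 : w ≠ 0 := fun e => hβ (by rw [← hp, e]; simp)
    have hQw : Q ((w : p.W) : V) = 0 := by
      by_contra hne
      exact hw ((H.next hQ p').zero w hw0 hne y')
    rcases hL w hQw with ⟨x, hx⟩ | hx
    · exfalso
      apply hβ
      rw [← hp, hx, ← polar_restr, ← polar_restr, polar_smul_left', polar_self', p''.he]
      ring
    · exact hx
  have hout : σ (sg ((p''.e : p'.W) : p.W) p'.f p''.he (p'.w_f p''.e)) y = y := by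
    have e : sg ((p''.e : p'.W) : p.W) p'.f p''.he (p'.w_f p''.e) * n1 =
        n1 * sg p'.e ((((-1 : F) • p''.f : p'.W)) : p.W) p'.he (p'.e_w _) :=
      inv_conj_sg _ _ n1 (gg_e p' p'') (by
        rw [Submodule.coe_smul, map_smul, neg_one_smul, show ap n1 ((p''.f : p'.W) : p.W) = -p'.f from gg_b p' p'',
          neg_neg])
    conv_lhs => rw [← map_apply_inv_eq σ n1 y]
    rw [← Module.End.mul_apply, ← map_mul, e, map_mul, Module.End.mul_apply,
      show σ (sg p'.e ((((-1 : F) • p''.f : p'.W)) : p.W) p'.he (p'.e_w _)) y' = y' from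
        fixed_of_components (p := p') (p.nd hQ) fun w hw => hU w (-1) (hy' w hw) _,
      map_apply_inv_eq]
  have hmid : σ (sg p'.e (-((p''.f : p'.W) : p.W)) p'.he
      (by rw [polar_neg_right, p'.e_w p''.f, neg_zero])) y = y := by
    rw [show sg p'.e (-((p''.f : p'.W) : p.W)) p'.he (by rw [polar_neg_right, p'.e_w p''.f, neg_zero]) =
        xr p' ((-1 : F) • p''.f) from sg_congr rfl (by rw [Submodule.coe_smul, neg_one_smul])]
    exact hU u (-1) ⟨β, rfl⟩ z
  show σ (gEl p' (p'.lift p'') (p'.orth_lift p'')) y = y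
  rw [gEl, map_mul, map_mul, Module.End.mul_apply, Module.End.mul_apply]
  simp only [HP.lift]
  rw [show σ (sg _ p'.f _ _) y = y from hout, show σ (sg p'.e _ _ _) y = y from hmid]
  exact hout

theorem gg_comm (p'' : HP (restr (restr Q p.W) p'.W)) :
    p'.gg p'' * p'.gg p''.swap = p'.gg p''.swap * p'.gg p'' := by
  set n1 := p'.gg p''
  set n2 := p'.gg p''.swap
  have e1 : ap n1 ((p''.f : p'.W) : p.W) = -p'.f := gg_b p' p''
  have e2 : ap n1 p'.f = ((p''.f : p'.W) : p.W) := gg_f p' p''
  have e3 : ap n1 p'.e = ((p''.e : p'.W) : p.W) := gg_e p' p''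
  have e4 : ap n1 ((p''.e : p'.W) : p.W) = -p'.e := gg_a p' p''
  rw [← mul_inv_eq_iff_eq_mul]
  show n1 * gEl p' (p'.lift p''.swap) (p'.orth_lift p''.swap) * n1⁻¹ = _
  rw [gEl, conj_mul.symm, conj_mul.symm, sg_conj, sg_conj]
  show _ = gEl p' (p'.lift p''.swap) (p'.orth_lift p''.swap)
  rw [gEl]
  simp only [HP.lift, HP.swap]
  refine congrArg₂ (· * ·) (congrArg₂ (· * ·) ?_ ?_) ?_
  all_goals
    refine Subtype.ext (O.ext_app fun y => ?_)
    simp only [sg_val, sie_app, map_neg, e1, e2, e3, e4, polar_neg_left, neg_neg,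
      QuadraticMap.map_neg, p'.he, p'.hf, show restr Q p.W ((p''.e : p'.W) : p.W) = 0 from p''.he,
      show restr Q p.W ((p''.f : p'.W) : p.W) = 0 from p''.hf, zero_mul, sub_zero]
    module

/-- Two new fixed vectors of the radical in the smallest plus case. -/
theorem new_bound [FiniteDimensional ℂ M] (B : InvForm ρ) (H : HypS ρ hQ p)
    (p'' : HP (restr (restr Q p.W) p'.W)) (hL : TwoLines p'') :
    finrank ℂ (cRep ρ hQ p).invariants + 2 ≤ finrank ℂ (Cs (cRep ρ hQ p) p') := by
  set σ := cRep ρ hQ p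
  set B' := B.restrict (emb hQ p) σ (fun h x => cRep_apply ρ hQ p h x)
  have hR := p.nd hQ
  obtain ⟨Wc, hWc, hzc⟩ := exists_new hQ B H p'' hL
  obtain ⟨Wd, hWd, hzd⟩ := exists_new hQ B H p''.swap hL.swap
  set n1 := p'.gg p''
  set n2 := p'.gg p''.swap
  set zc := wP σ p' 0 (σ n1 Wc)
  set zd := wP σ p' 0 (σ n2 Wd) with hzd'
  have hsumne : ∀ z, σ n2 Wd = z → z = zd + ∑ u ∈ Finset.univ.erase (0 : p'.W), wP σ p' u z := by
    intro z hz
    rw [hzd', hz, add_comm, Finset.sum_erase_add _ _ (Finset.mem_univ _), sum_wP_apply σ p' hR]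
  set v := σ n2 Wd
  have hfixcomp : ∀ (z : Cs ρ p), (∀ u, u ≠ 0 → wP σ p' u z ≠ 0 → ∃ x : F, u = x • p''.f) →
      wP σ p' 0 z = 0 → σ n1 z = z := fun z hz hz0 =>
    fixed_of_components (p := p') hR fun u hu => by
      have hu0 : u ≠ 0 := fun e => hu (e ▸ hz0)
      obtain ⟨x, rfl⟩ := hz u hu0 hu
      exact fixed_line hQ H p'' hL z fun e => hu0 (by rw [e, zero_smul])
  have hWd0 : wP σ p' 0 Wd = 0 := by
    by_contra h
    obtain ⟨x, hx, e⟩ := hWd 0 h
    exact (smul_ne_zero hx p''.swap.e_ne) e.symm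
  have hWc0 : wP σ p' 0 Wc = 0 := by
    by_contra h
    obtain ⟨x, hx, e⟩ := hWc 0 h
    exact (smul_ne_zero hx p''.e_ne) e.symm
  have hWdfix : σ n1 Wd = Wd := hfixcomp Wd (fun u _ hu => by
    obtain ⟨x, -, e⟩ := hWd u hu; exact ⟨x, e⟩) hWd0
  have hvfix : σ n1 v = v := by
    show σ n1 (σ n2 Wd) = σ n2 Wd
    rw [← Module.End.mul_apply, ← map_mul, gg_comm hQ p'', map_mul, Module.End.mul_apply, hWdfix]
  have hvlines : ∀ u, u ≠ 0 → wP σ p' u v ≠ 0 → ∃ x : F, u = x • p''.f := by
    intro u hu0 hu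
    have hQu : Q ((u : p.W) : V) = 0 := by
      by_contra hne
      exact hu ((H.next hQ p').zero u hu0 hne v)
    rcases hL u hQu with ⟨x, hx⟩ | h
    · exfalso
      have hfixd : ∀ s : F, σ (xr p' (s • p''.f)) v = v := fun s => by
        show σ _ (σ n2 Wd) = σ n2 Wd
        rw [← Module.End.mul_apply, ← map_mul]
        rw [show xr p' (s • p''.f) * n2 = n2 * xr p' (s • p''.f) from (gg_commute_line p''.swap s).eq.symm,
          map_mul, Module.End.mul_apply]
        congr 1
        refine fixed_of_components (p := p') hR fun w hw => ?_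
        obtain ⟨y, -, rfl⟩ := hWd w hw
        rw [xr_mul_wP_apply, chi_apply, show polar (restr Q p.W) (((y • p''.swap.e : p'.W) : p.W))
          (((s • p''.f : p'.W) : p.W)) = 0 from ?_, AddChar.map_zero_eq_one, one_smul]
        rw [← polar_restr]
        show polar (restr (restr Q p.W) p'.W) (y • p''.f) (s • p''.f) = 0
        rw [polar_smul_left', polar_smul_right', polar_self', p''.hf]
        ring
      have := polar_eq_zero_of_fixed σ p' (w := p''.f) hfixd hu
      rw [← polar_restr, hx, polar_smul_left', p''.hef, mul_one] at this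
      exact hu0 (by rw [hx, this, zero_smul])
    · exact h
  have hzdfix : σ n1 zd = zd := by
    have e := hsumne v rfl
    have hrest : σ n1 (∑ u ∈ Finset.univ.erase (0 : p'.W), wP σ p' u v) =
        ∑ u ∈ Finset.univ.erase (0 : p'.W), wP σ p' u v := by
      rw [map_sum]
      refine Finset.sum_congr rfl fun u hu => ?_
      by_cases h : wP σ p' u v = 0
      · rw [h, map_zero]
      · obtain ⟨x, rfl⟩ := hvlines u (Finset.ne_of_mem_erase hu) h
        exact fixed_line hQ H p'' hL v fun e' => Finset.ne_of_mem_erase hu (by rw [e', zero_smul])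
    have h1 : σ n1 (zd + ∑ u ∈ Finset.univ.erase (0 : p'.W), wP σ p' u v) =
        zd + ∑ u ∈ Finset.univ.erase (0 : p'.W), wP σ p' u v := by rw [← e]; exact hvfix
    rw [map_add, hrest] at h1
    exact add_right_cancel h1
  have horth : B'.ip zd zc = 0 := by
    rw [← ip_wP p' B', show wP σ p' 0 zd = zd from wP_idem_apply σ p' 0 _, ← hzdfix, B'.inv]
    rw [show zd = wP σ p' 0 v from rfl, ip_wP p' B', hWc0, map_zero]
  have hinv0 : ∀ (w : σ.invariants) (n : sieGroup (restr Q p.W)) (z : Cs ρ p), wP σ p' 0 z = 0 →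
      B'.ip (w : Cs ρ p) (wP σ p' 0 (σ n z)) = 0 := by
    intro w n z hz
    have hw0 : wP σ p' 0 (w : Cs ρ p) = w := (wP_zero_eq_self_iff σ p').2 fun t => w.2 _
    rw [← ip_wP p' B', hw0, ← w.2 n, B'.inv, ← hw0, ip_wP p' B', hz, map_zero]
  let L : σ.invariants × ℂ × ℂ →ₗ[ℂ] Cs σ p' :=
    { toFun := fun z => ⟨(z.1 : Cs ρ p) + z.2.1 • zc + z.2.2 • zd, (mem_Cs σ).2 (by
        rw [map_add, map_add, map_smul, map_smul, wP_idem_apply, wP_idem_apply,
          (wP_zero_eq_self_iff σ p').2 fun t => z.1.2 _])⟩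
      map_add' := fun a b => Subtype.ext (by simp [add_smul]; abel)
      map_smul' := fun r a => Subtype.ext (by simp [smul_add, smul_smul]) }
  have hinj : Function.Injective L := by
    refine LinearMap.ker_eq_bot.1 (LinearMap.ker_eq_bot'.2 fun z hz => ?_)
    have hz' : (z.1 : Cs ρ p) + z.2.1 • zc + z.2.2 • zd = 0 := congrArg Subtype.val hz
    have a1 := congrArg (B'.ip zd) hz'
    rw [map_add, map_add, map_smul, map_smul, horth, B'.ip_swap_zero (hinv0 z.1 n2 Wd hWd0),
      smul_zero, zero_add, zero_add, map_zero, smul_eq_mul, mul_eq_zero] at a1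
    have hd0 : z.2.2 = 0 := a1.resolve_right fun e => hzd (B'.eq_zero_of_ip_self e)
    rw [hd0, zero_smul, add_zero] at hz'
    have a2 := congrArg (B'.ip zc) hz'
    rw [map_add, map_smul, B'.ip_swap_zero (hinv0 z.1 n1 Wc hWc0), zero_add, map_zero, smul_eq_mul,
      mul_eq_zero] at a2
    have hc0 : z.2.1 = 0 := a2.resolve_right fun e => hzc (B'.eq_zero_of_ip_self e)
    rw [hc0, zero_smul, add_zero] at hz'
    exact Prod.ext (Subtype.ext hz') (Prod.ext hc0 hd0)
  have := LinearMap.finrank_le_finrank_of_injective hinj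
  rwa [Module.finrank_prod, Module.finrank_prod, Module.finrank_self] at this

end Cfsg.Agent.H53.OmLow
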