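import Cfsg.Agent.H53.OmLow.Count
import Cfsg.Agent.Orthogonal.Spinor

/-!
The lower bounds obtained by descending along a frame.
-/

set_option autoImplicit false
set_option linter.unusedSectionVars false

namespace Cfsg.Agent.H53.OmLow

open QuadraticMap Module Finset
open Cfsg.Agent.Orthogonal

attribute [local instance] Fintype.ofFinite Classical.propDecidable

universe v w


section Step

variable {F : Type*} [Field F] [Finite F] {V : Type v} [AddCommGroup V] [Module F V]
  [FiniteDimensional F V]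
variable {Q : QuadraticForm F V} {M : Type w} [AddCommGroup M] [Module ℂ M] [FiniteDimensional ℂ M]
variable {ρ : Representation ℂ (sieGroup Q) M} {p : HP Q} (hQ : Nondeg Q)

include hQ

/-- The form on the fixed space. -/
noncomputable def InvForm.next (B : InvForm ρ) (p : HP Q) : InvForm (cRep ρ hQ p) :=
  B.restrict (emb hQ p) (cRep ρ hQ p) fun h x => cRep_apply ρ hQ p h x

theorem one_new (B : InvForm ρ) (H : HypS ρ hQ p) (p' : HP (restr Q p.W))
    (hW3 : 3 ≤ finrank F p.W)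
    (hcnt : 2 * ((Nat.card F) * zc (restr (restr Q p.W) p'.W) 0) ≤ zc (restr Q p.W) 0) :
    finrank ℂ ρ.invariants + 1 ≤ finrank ℂ (cRep ρ hQ p).invariants := by
  obtain ⟨z, hz⟩ := H.ne p'.e p'.e_ne p'.he
  set x := orbSum hQ ρ p (wP ρ p p'.e z)
  have hx : x ≠ 0 := fun e =>
    wP_orbSum_self_ne hQ H p'.e_ne p'.he hz (by rw [show orbSum hQ ρ p _ = x from rfl, e, map_zero])
  have := inv_bound hQ B H.zero p' hW3 (count_ok p p' hcnt) (n := 1) (fun _ => x)
    (fun _ => orbSum_hfix hQ _) (fun _ => wP_zero_orbSum hQ p'.e_ne z)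
    (LinearIndependent.of_subsingleton 0 hx)
  omega

theorem pair_new (B : InvForm ρ) (H : HypS ρ hQ p) (p' : HP (restr Q p.W))
    (hW3 : 3 ≤ finrank F p.W)
    (hcnt : 2 * ((Nat.card F) * zc (restr (restr Q p.W) p'.W) 0) ≤ zc (restr Q p.W) 0)
    {u v : p.W} (hu : u ≠ 0) (hQu : Q (u : V) = 0) (hv : v ≠ 0) (hQv : Q (v : V) = 0)
    (huv : ∀ k : sieGroup (restr Q p.W), apW k u ≠ v) :
    finrank ℂ ρ.invariants + 2 ≤ finrank ℂ (cRep ρ hQ p).invariants := by
  obtain ⟨z, hz⟩ := H.ne u hu hQu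
  obtain ⟨y, hy⟩ := H.ne v hv hQv
  set x := orbSum hQ ρ p (wP ρ p u z) with hx'
  set x' := orbSum hQ ρ p (wP ρ p v y) with hy'
  have hvu : ∀ k : sieGroup (restr Q p.W), apW k v ≠ u := fun k e => huv k⁻¹ (by
    show apW k⁻¹ u = v
    rw [← e]
    exact (apW k).symm_apply_apply v)
  have hli : LinearIndependent ℂ ![x, x'] := by
    rw [LinearIndependent.pair_iff]
    intro s t hst
    have h1 := congrArg (wP ρ p u) hst
    have h2 := congrArg (wP ρ p v) hst
    rw [map_add, map_smul, map_smul, map_zero, hy', wP_orbSum_eq_zero hQ y hvu, smul_zero, add_zero,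
      smul_eq_zero] at h1
    rw [map_add, map_smul, map_smul, map_zero, hx', wP_orbSum_eq_zero hQ z huv, smul_zero, zero_add,
      smul_eq_zero] at h2
    exact ⟨h1.resolve_right (wP_orbSum_self_ne hQ H hu hQu hz),
      h2.resolve_right (wP_orbSum_self_ne hQ H hv hQv hy)⟩
  have := inv_bound hQ B H.zero p' hW3 (count_ok p p' hcnt) (n := 2) ![x, x']
    (fun i => by fin_cases i <;> exact orbSum_hfix hQ _)
    (fun i => by fin_cases i <;> [exact wP_zero_orbSum hQ hu z; exact wP_zero_orbSum hQ hv y]) hli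
  omega

end Step

section Three

variable {F W : Type*} [Field F] [Finite F] [AddCommGroup W] [Module F W] [FiniteDimensional F W]
variable {R : QuadraticForm F W}

omit [Finite F] in
theorem sie_eq_sq (h2 : (2 : F) ≠ 0) {u w : W} (hu : R u = 0) (hw : polar R u w = 0) :
    ∃ g : O R, sie u w hu hw = g * g := by
  refine ⟨sie u ((2 : F)⁻¹ • w) hu (by rw [polar_smul_right', hw, mul_zero]), ?_⟩
  rw [sie_mul]
  refine sie_congr _ _ _ _ rfl ?_
  rw [← add_smul, ← two_mul, mul_inv_cancel₀ h2, one_smul]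

omit [Finite F] in
theorem hom_sieGroup_eq_one (h2 : (2 : F) ≠ 0) (φ : O R →* ℤˣ) {g : O R} (hg : g ∈ sieGroup R) :
    φ g = 1 := by
  refine (Subgroup.closure_le φ.ker).2 ?_ hg
  rintro - ⟨u, w, hu, hw, rfl⟩
  obtain ⟨g', hg'⟩ := sie_eq_sq h2 hu hw
  rw [SetLike.mem_coe, MonoidHom.mem_ker, hg', map_mul, Int.units_mul_self]

/-- In dimension three the scalar multiples of a singular vector in its orbit are by squares. -/
theorem isSquare_of_smul (hR : Nondeg R) (h2 : (2 : F) ≠ 0) (h3 : finrank F W = 3) (p : HP R)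
    {γ : F} (hγ : γ ≠ 0) (k : sieGroup R) (hk : ((k : O R) : W ≃ₗ[F] W) p.e = γ • p.e) :
    IsSquare γ := by
  have hb : polar R p.e (γ • ((k : O R) : W ≃ₗ[F] W) p.f) = 1 := by
    have := O.polar_app (k : O R) p.e p.f
    rw [hk, polar_smul_left', p.hef] at this
    rw [polar_smul_right', this]
  obtain ⟨g, hg, hgb, hga, -⟩ := exists_sie_partner (u := γ • ((k : O R) : W ≃ₗ[F] W) p.f)
    (v := p.f) (f := p.e) (by rw [qmap_smul, O.map_app, p.hf, mul_zero]) p.hf p.he
    (by rw [polar_comm]; exact hb) (by rw [polar_comm]; exact p.hef)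
  set h : O R := g * (k : O R)
  have hh : h ∈ sieGroup R := mul_mem hg k.2
  have he : (h : W ≃ₗ[F] W) p.e = γ • p.e := by
    rw [Subgroup.coe_mul, mul_app, hk, map_smul, hga]
  have hf : (h : W ≃ₗ[F] W) p.f = γ⁻¹ • p.f := by
    rw [Subgroup.coe_mul, mul_app]
    rw [map_smul] at hgb
    exact (eq_inv_smul_iff₀ hγ).2 hgb
  -- the product of two reflections with the same effect on the pair
  set v₁ := γ • p.e + p.f
  set v₂ := p.e + p.f
  have q1 : R v₁ = γ := by
    rw [map_add_polar, qmap_smul, polar_smul_left', p.he, p.hf, p.hef]; ring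
  have q2 : R v₂ = 1 := by
    rw [map_add_polar, p.he, p.hf, p.hef]; ring
  have hv1 : R v₁ ≠ 0 := by rw [q1]; exact hγ
  have hv2 : R v₂ ≠ 0 := by rw [q2]; exact one_ne_zero
  set D : O R := rO R v₁ * rO R v₂
  have r2e : (rO R v₂ : W ≃ₗ[F] W) p.e = -p.f := by
    rw [rO_app, q2, inv_one, one_mul, polar_add_left, polar_self', p.he, p.hfe]
    simp only [v₂, mul_zero, zero_add, one_smul]
    abel
  have r2f : (rO R v₂ : W ≃ₗ[F] W) p.f = -p.e := by
    rw [rO_app, q2, inv_one, one_mul, polar_add_left, polar_self', p.hf, p.hef]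
    simp only [v₂, mul_zero, add_zero, one_smul]
    abel
  have r1e : (rO R v₁ : W ≃ₗ[F] W) p.e = -(γ⁻¹ • p.f) := by
    rw [rO_app, q1, polar_add_left, polar_smul_left', polar_self', p.he, p.hfe]
    simp only [v₁, mul_zero, zero_add, mul_one, smul_add, smul_smul, inv_mul_cancel₀ hγ, one_smul]
    abel
  have r1f : (rO R v₁ : W ≃ₗ[F] W) p.f = -(γ • p.e) := by
    rw [rO_app, q1, polar_add_left, polar_smul_left', polar_self', p.hf, p.hef]
    simp only [v₁, mul_zero, add_zero, mul_one, inv_mul_cancel₀ hγ, one_smul]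
    abel
  have De : (D : W ≃ₗ[F] W) p.e = γ • p.e := by
    rw [Subgroup.coe_mul, mul_app, r2e, map_neg, r1f, neg_neg]
  have Df : (D : W ≃ₗ[F] W) p.f = γ⁻¹ • p.f := by
    rw [Subgroup.coe_mul, mul_app, r2f, map_neg, r1e, neg_neg]
  have hsD : spinor R hR h2 D = sqSign γ := by
    rw [map_mul, spinor_rO hR h2 hv1, spinor_rO hR h2 hv2, q1, q2,
      sqSign_of_isSquare (a := (1 : F)) IsSquare.one, mul_one]
  have hdD : detSign R hR h2 D = 1 := by
    rw [map_mul, detSign_rO hR h2 hv1, detSign_rO hR h2 hv2]; rfl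
  set j : O R := D⁻¹ * h
  have hje : (j : W ≃ₗ[F] W) p.e = p.e := by
    rw [Subgroup.coe_mul, mul_app, he, ← De, ← mul_app, ← Subgroup.coe_mul, inv_mul_cancel]; rfl
  have hjf : (j : W ≃ₗ[F] W) p.f = p.f := by
    rw [Subgroup.coe_mul, mul_app, hf, ← Df, ← mul_app, ← Subgroup.coe_mul, inv_mul_cancel]; rfl
  -- the remaining line
  have hline : finrank F p.W = 1 := by
    have := p.finrank_W hR
    omega
  obtain ⟨w₀, hw₀, hspan⟩ := finrank_eq_one_iff'.1 hline
  have hjW : (j : W ≃ₗ[F] W) (w₀ : W) ∈ p.W := by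
    rw [p.mem_W]
    constructor
    · rw [← hje, O.polar_app]; exact p.e_w w₀
    · rw [← hjf, O.polar_app]; exact p.f_w w₀
  obtain ⟨s, hs⟩ := hspan ⟨_, hjW⟩
  have hs' : (j : W ≃ₗ[F] W) (w₀ : W) = s • (w₀ : W) := congrArg Subtype.val hs.symm
  have hq0 : R (w₀ : W) ≠ 0 := by
    intro h0
    refine hw₀ (p.nd hR w₀ fun y => ?_)
    obtain ⟨t, rfl⟩ := hspan y
    rw [polar_restr, Submodule.coe_smul, polar_smul_right', polar_self', h0]; ring
  have hs2 : s ^ 2 = 1 := by
    have := O.map_app j (w₀ : W)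
    rw [hs', qmap_smul] at this
    exact mul_right_cancel₀ hq0 (this.trans (one_mul _).symm)
  have hext : ∀ j' : O R, (j' : W ≃ₗ[F] W) p.e = p.e → (j' : W ≃ₗ[F] W) p.f = p.f →
      (j' : W ≃ₗ[F] W) (w₀ : W) = s • (w₀ : W) → j = j' := fun j' a b c => by
    refine p.ext_hp (hje.trans a.symm) (hjf.trans b.symm) fun x hx => ?_
    obtain ⟨t, ht⟩ := hspan ⟨x, hx⟩
    obtain rfl : t • (w₀ : W) = x := congrArg Subtype.val ht
    rw [map_smul, map_smul, hs', c]
  have hdj : detSign R hR h2 j = 1 := by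
    rw [map_mul, map_inv, hdD, hom_sieGroup_eq_one h2 (detSign R hR h2) hh, inv_one, one_mul]
  have hj1 : j = 1 := by
    rcases sq_eq_one_iff.1 hs2 with hs1 | hs1
    · exact hext 1 rfl rfl (by rw [hs1, one_smul]; rfl)
    · exfalso
      rw [hext (rO R (w₀ : W)) (rO_fix (p.w_e w₀)) (rO_fix (p.w_f w₀))
        (by rw [rO_self hq0, hs1, neg_smul, one_smul]), detSign_rO hR h2 hq0] at hdj
      exact absurd hdj (by decide)
  have hh' : h = D := by
    rw [← mul_one D, ← hj1, mul_inv_cancel_left]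
  rw [← sqSign_eq_one_iff, ← hsD, ← hh']
  exact hom_sieGroup_eq_one h2 (spinor R hR h2) hh

end Three

variable {F : Type*} [Field F] [Finite F]

theorem chain_minus : ∀ (k : ℕ) {V : Type v} [AddCommGroup V] [Module F V] [FiniteDimensional F V]
    {Q : QuadraticForm F V} (hQ : Nondeg Q) {M : Type w} [AddCommGroup M] [Module ℂ M]
    [FiniteDimensional ℂ M] (ρ : Representation ℂ (sieGroup Q) M) (_ : InvForm ρ) (p : HP Q),
    HypS ρ hQ p → HasType (restr Q p.W) k 2 →
    finrank ℂ ρ.invariants + ∑ i ∈ range (k + 1), (Nat.card F) ^ (2 * i + 1) ≤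
      finrank ℂ M + (Nat.card F) ^ (k + 1) := by
  intro k
  induction k with
  | zero =>
    intro V _ _ _ Q hQ M _ _ _ ρ _ p _ _
    have := Submodule.finrank_le ρ.invariants
    simpa using this
  | succ k ih =>
    intro V _ _ _ Q hQ M _ _ _ ρ B p H hT
    obtain ⟨p', hT'⟩ := hT.exists_pair (p.nd hQ)
    have hz := zc_zero hT
    have hz' := zc_zero hT'
    have hd := hT.finrank_eq (p.nd hQ)
    have hq : 2 ≤ (Nat.card F) := Finite.one_lt_card
    have hpos : 0 < (Nat.card F) := by omega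
    set Z := zc (restr Q p.W) 0
    set Z' := zc (restr (restr Q p.W) p'.W) 0
    have hZ : Z + (Nat.card F) ^ (k + 2) = (Nat.card F) ^ (2 * k + 3) + (Nat.card F) ^ (k + 1) :=
      Nat.eq_of_mul_eq_mul_left hpos (by ring_nf at hz ⊢; linarith)
    have hcnt : 2 * ((Nat.card F) * Z') ≤ Z := by
      have h1 : 2 * (Nat.card F) ^ (2 * k + 2) ≤ (Nat.card F) * (Nat.card F) ^ (2 * k + 2) := Nat.mul_le_mul_right _ hq
      have h2 : (Nat.card F) ^ (k + 1) ≤ (Nat.card F) ^ (k + 2) := Nat.pow_le_pow_right hpos (by omega)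
      ring_nf at hz' hZ h1 h2 ⊢
      nlinarith
    have h1 := one_new hQ B H p' (by omega) hcnt
    have h2 := ih (p.nd hQ) _ (B.next hQ p) p' (H.next hQ p') hT'
    have h3 := H.toHypW.card_add_le hQ
    have h4 := sph_zero_add_one p
    rw [show Z = zc (restr Q p.W) 0 from rfl] at hZ
    rw [Finset.sum_range_succ, show 2 * (k + 1) + 1 = 2 * k + 3 by ring,
      show k + 1 + 1 = k + 2 by ring]
    omega

theorem chain_odd (h2 : (2 : F) ≠ 0) : ∀ (k : ℕ) {V : Type v} [AddCommGroup V] [Module F V]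
    [FiniteDimensional F V]
    {Q : QuadraticForm F V} (hQ : Nondeg Q) {M : Type w} [AddCommGroup M] [Module ℂ M]
    [FiniteDimensional ℂ M] (ρ : Representation ℂ (sieGroup Q) M) (_ : InvForm ρ) (p : HP Q),
    HypS ρ hQ p → HasType (restr Q p.W) (k + 1) 1 →
    finrank ℂ ρ.invariants + ∑ i ∈ range (k + 2), (Nat.card F) ^ (2 * i) ≤ finrank ℂ M := by
  intro k
  induction k with
  | zero =>
    intro V _ _ _ Q hQ M _ _ _ ρ B p H hT
    obtain ⟨p', hT'⟩ := hT.exists_pair (p.nd hQ)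
    have hz := zc_zero hT
    have hz' := zc_zero hT'
    have hd := hT.finrank_eq (p.nd hQ)
    have hq : 2 ≤ (Nat.card F) := Finite.one_lt_card
    have hpos : 0 < (Nat.card F) := by omega
    set Z := zc (restr Q p.W) 0
    set Z' := zc (restr (restr Q p.W) p'.W) 0
    have hZ : Z = (Nat.card F) ^ 2 :=
      Nat.eq_of_mul_eq_mul_left hpos (by ring_nf at hz ⊢; linarith)
    have hZ' : Z' = 1 :=
      Nat.eq_of_mul_eq_mul_left hpos (by ring_nf at hz' ⊢; linarith)
    have hcnt : 2 * ((Nat.card F) * Z') ≤ Z := by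
      rw [hZ, hZ', mul_one, pow_two]; exact Nat.mul_le_mul_right _ hq
    obtain ⟨γ, hγ⟩ := exists_not_isSquare h2
    have hγ0 : γ ≠ 0 := fun h => hγ (h ▸ IsSquare.zero)
    have h1 := pair_new hQ B H p' (by omega) hcnt p'.e_ne p'.he (v := γ • p'.e)
      (smul_ne_zero hγ0 p'.e_ne) (by rw [← restr_apply, qmap_smul, p'.he, mul_zero])
      fun j hj => hγ (isSquare_of_smul (p.nd hQ) h2 (by omega) p' hγ0 j hj)
    have h2' := Submodule.finrank_le (cRep ρ hQ p).invariants
    have h3 := H.toHypW.card_add_le hQ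
    have h4 := sph_zero_add_one p
    rw [show Z = zc (restr Q p.W) 0 from rfl] at hZ
    simp only [Finset.sum_range_succ, Finset.sum_range_zero, Nat.mul_zero, pow_zero, Nat.mul_one,
      zero_add]
    omega
  | succ k ih =>
    intro V _ _ _ Q hQ M _ _ _ ρ B p H hT
    obtain ⟨p', hT'⟩ := hT.exists_pair (p.nd hQ)
    have hz := zc_zero hT
    have hz' := zc_zero hT'
    have hd := hT.finrank_eq (p.nd hQ)
    have hq : 2 ≤ (Nat.card F) := Finite.one_lt_card
    have hpos : 0 < (Nat.card F) := by omega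
    set Z := zc (restr Q p.W) 0
    set Z' := zc (restr (restr Q p.W) p'.W) 0
    have hZ : Z = (Nat.card F) ^ (2 * k + 4) :=
      Nat.eq_of_mul_eq_mul_left hpos (by ring_nf at hz ⊢; linarith)
    have hZ' : Z' = (Nat.card F) ^ (2 * k + 2) :=
      Nat.eq_of_mul_eq_mul_left hpos (by ring_nf at hz' ⊢; linarith)
    have hcnt : 2 * ((Nat.card F) * Z') ≤ Z := by
      rw [hZ, hZ', ← pow_succ', pow_succ' (Nat.card F) (2 * k + 3)]
      exact Nat.mul_le_mul_right _ hq
    have h1 := one_new hQ B H p' (by omega) hcnt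
    have h2' := ih (p.nd hQ) _ (B.next hQ p) p' (H.next hQ p') hT'
    have h3 := H.toHypW.card_add_le hQ
    have h4 := sph_zero_add_one p
    rw [show Z = zc (restr Q p.W) 0 from rfl] at hZ
    rw [Finset.sum_range_succ, show 2 * (k + 2) = 2 * k + 4 by ring]
    omega

theorem chain_plus (hq3 : 3 ≤ Nat.card F) : ∀ (k : ℕ) {V : Type v} [AddCommGroup V] [Module F V]
    [FiniteDimensional F V]
    {Q : QuadraticForm F V} (hQ : Nondeg Q) {M : Type w} [AddCommGroup M] [Module ℂ M]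
    [FiniteDimensional ℂ M] (ρ : Representation ℂ (sieGroup Q) M) (_ : InvForm ρ) (p : HP Q),
    HypS ρ hQ p → HasType (restr Q p.W) (k + 2) 0 →
    finrank ℂ ρ.invariants + ∑ i ∈ range (k + 2), (Nat.card F) ^ (2 * i + 1) + (Nat.card F) ^ (k + 2) ≤
      finrank ℂ M := by
  intro k
  induction k with
  | zero =>
    intro V _ _ _ Q hQ M _ _ _ ρ B p H hT
    obtain ⟨p', hT'⟩ := hT.exists_pair (p.nd hQ)
    obtain ⟨p'', hT''⟩ := hT'.exists_pair (p'.nd (p.nd hQ))
    have hz := zc_zero hT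
    have hz' := zc_zero hT'
    have hd := hT.finrank_eq (p.nd hQ)
    have hd' := hT'.finrank_eq (p'.nd (p.nd hQ))
    have hpos : 0 < (Nat.card F) := by omega
    set Z := zc (restr Q p.W) 0
    set Z' := zc (restr (restr Q p.W) p'.W) 0
    have hZ : Z + (Nat.card F) = (Nat.card F) ^ 3 + (Nat.card F) ^ 2 :=
      Nat.eq_of_mul_eq_mul_left hpos (by ring_nf at hz ⊢; linarith)
    have hZ' : Z' + 1 = 2 * (Nat.card F) :=
      Nat.eq_of_mul_eq_mul_left hpos (by ring_nf at hz' ⊢; linarith)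
    have hcnt : 2 * ((Nat.card F) * Z') ≤ Z := by
      have : 3 * (Nat.card F) ^ 2 ≤ (Nat.card F) * (Nat.card F) ^ 2 := Nat.mul_le_mul_right _ hq3
      nlinarith
    have h1 := one_new hQ B H p' (by omega) hcnt
    have h2' := new_bound hQ B H p'' (twoLines_of_finrank hQ p'' (by omega))
    have h3 := H.toHypW.card_add_le hQ
    have h3' := (H.next hQ p').toHypW.card_add_le (p.nd hQ)
    have h4 := sph_zero_add_one p
    have h4' := sph_zero_add_one p'
    rw [show Z = zc (restr Q p.W) 0 from rfl] at hZ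
    rw [show Z' = zc (restr (restr Q p.W) p'.W) 0 from rfl] at hZ'
    simp only [Finset.sum_range_succ, Finset.sum_range_zero, Nat.mul_zero, zero_add, pow_one,
      Nat.mul_one, Nat.reduceAdd]
    omega
  | succ k ih =>
    intro V _ _ _ Q hQ M _ _ _ ρ B p H hT
    obtain ⟨p', hT'⟩ := hT.exists_pair (p.nd hQ)
    have hz := zc_zero hT
    have hz' := zc_zero hT'
    have hd := hT.finrank_eq (p.nd hQ)
    have hpos : 0 < (Nat.card F) := by omega
    set Z := zc (restr Q p.W) 0
    set Z' := zc (restr (restr Q p.W) p'.W) 0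
    have hZ : Z + (Nat.card F) ^ (k + 2) = (Nat.card F) ^ (2 * k + 5) + (Nat.card F) ^ (k + 3) :=
      Nat.eq_of_mul_eq_mul_left hpos (by ring_nf at hz ⊢; linarith)
    have hcnt : 2 * ((Nat.card F) * Z') ≤ Z := by
      have h1 : 3 * (Nat.card F) ^ (2 * k + 4) ≤ (Nat.card F) * (Nat.card F) ^ (2 * k + 4) := Nat.mul_le_mul_right _ hq3
      have h2 : (Nat.card F) ^ (k + 3) ≤ (Nat.card F) ^ (2 * k + 4) := Nat.pow_le_pow_right hpos (by omega)
      ring_nf at hz' hZ h1 h2 ⊢
      nlinarith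
    have h1 := one_new hQ B H p' (by omega) hcnt
    have h2' := ih (p.nd hQ) _ (B.next hQ p) p' (H.next hQ p') hT'
    have h3 := H.toHypW.card_add_le hQ
    have h4 := sph_zero_add_one p
    rw [show Z = zc (restr Q p.W) 0 from rfl] at hZ
    rw [Finset.sum_range_succ, show 2 * (k + 2) + 1 = 2 * k + 5 by ring,
      show k + 1 + 2 = k + 3 by ring]
    omega

/-- The chain for one non-zero norm in the minus case. -/
theorem chain_sphere : ∀ (k : ℕ) {V : Type v} [AddCommGroup V] [Module F V] [FiniteDimensional F V]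
    {Q : QuadraticForm F V} (hQ : Nondeg Q) {M : Type w} [AddCommGroup M] [Module ℂ M]
    [FiniteDimensional ℂ M] (ρ : Representation ℂ (sieGroup Q) M) (p : HP Q) (c : F), c ≠ 0 →
    HypW ρ p c → HasType (restr Q p.W) k 2 →
    ∑ i ∈ range (k + 1), (Nat.card F) ^ (2 * i + 1) ≤ finrank ℂ M + (Nat.card F) ^ (k + 1) := by
  intro k
  induction k with
  | zero =>
    intro V _ _ _ Q hQ M _ _ _ ρ p c _ _ _
    simp
  | succ k ih =>
    intro V _ _ _ Q hQ M _ _ _ ρ p c hc H hT
    obtain ⟨p', hT'⟩ := hT.exists_pair (p.nd hQ)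
    have hz := zc_sphere_minus (p.nd hQ) hT hc
    have hpos : 0 < (Nat.card F) := Nat.card_pos
    have hS : zc (restr Q p.W) c + (Nat.card F) ^ (k + 2) =
        (Nat.card F) ^ (2 * k + 3) + (Nat.card F) ^ (k + 2) + (Nat.card F) ^ (k + 1) :=
      Nat.eq_of_mul_eq_mul_left hpos (by ring_nf at hz ⊢; linarith)
    have h2 := ih (p.nd hQ) (cRep ρ hQ p) p' c hc (H.next hQ p') hT'
    have h3 := H.card_add_le hQ
    have h4 := sph_add p c
    rw [if_neg hc, add_zero] at h4
    have h5 : (Nat.card F) ^ (k + 1) ≤ (Nat.card F) ^ (k + 2) := Nat.pow_le_pow_right hpos (by omega)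
    rw [Finset.sum_range_succ, show 2 * (k + 1) + 1 = 2 * k + 3 by ring,
      show k + 1 + 1 = k + 2 by ring]
    omega

end Cfsg.Agent.H53.OmLow
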