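import Cfsg.Agent.H53.OmLow.BasePlus
import Cfsg.Agent.Orthogonal.Order

/-!
Point counts in the orthogonal of a pair, by its Witt index and the dimension of its kernel.
-/

set_option autoImplicit false
set_option linter.unusedSectionVars false

namespace Cfsg.Agent.H53.OmLow

open QuadraticMap Module Finset
open Cfsg.Agent.Orthogonal

attribute [local instance] Fintype.ofFinite Classical.propDecidable

/-- Witt index `k` and anisotropic kernel of dimension `d`. -/
def HasType {F V : Type*} [Field F] [AddCommGroup V] [Module F V] (Q : QuadraticForm F V)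
    (k d : ℕ) : Prop :=
  ∃ e f : Fin k → V, IsFrame Q e f ∧ Aniso Q (IsFrame.kernel Q e f) ∧
    finrank F (IsFrame.kernel Q e f) = d

variable {F V : Type*} [Field F] [AddCommGroup V] [Module F V] [FiniteDimensional F V]
variable {Q : QuadraticForm F V}

theorem HasType.finrank_eq (hQ : Nondeg Q) {k d : ℕ} (h : HasType Q k d) :
    finrank F V = d + 2 * k := by
  obtain ⟨e, f, hf, -, rfl⟩ := h
  exact (hf.finrank_kernel hQ).symm

theorem HasType.exists_pair (hQ : Nondeg Q) {k d : ℕ} (h : HasType Q (k + 1) d) :
    ∃ p : HP Q, HasType (restr Q p.W) k d := by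
  obtain ⟨e, f, hf, ha, hd⟩ := h
  have huv : polar Q (e 0) (f 0) = 1 := by simp [hf.ef]
  obtain ⟨e', f', hf', ha'⟩ := hf.restr_tail ha
  let p : HP Q := ⟨e 0, f 0, hf.qe 0, hf.qf 0, huv⟩
  refine ⟨p, e', f', hf', ha', ?_⟩
  have h1 := hf'.finrank_kernel (p.nd hQ)
  have h2 := p.finrank_W hQ
  have h3 := hf.finrank_kernel hQ
  omega

variable [Finite F]

/-- The number of vectors of a norm. -/
noncomputable def zc (Q : QuadraticForm F V) (c : F) : ℕ := Nat.card {x : V // Q x = c}

local notation "qq" => Nat.card F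

theorem zc_zero {k d : ℕ} (h : HasType Q k d) :
    qq * zc Q 0 + qq ^ (k + d) = qq ^ (2 * k + d) + qq ^ (k + 1) := by
  obtain ⟨e, f, hf, ha, rfl⟩ := h
  exact card_zero_frame hf ha

theorem zc_lower {k d : ℕ} (h : HasType Q k d) (c : F) :
    qq ^ (2 * k + d) ≤ qq * zc Q c + qq ^ (k + d) := by
  obtain ⟨e, f, hf, -, rfl⟩ := h
  obtain ⟨h1, h2⟩ := sphereCard_frame hf c
  rw [natCard_eq_pow, ← pow_add, sphereCard_top] at h1
  rw [natCard_eq_pow, ← pow_add] at h2
  unfold zc
  omega

theorem zc_sphere_minus (hQ : Nondeg Q) {k : ℕ} (h : HasType Q k 2) {c : F} (hc : c ≠ 0) :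
    qq * zc Q c + qq ^ (k + 2) = qq ^ (2 * k + 2) + qq ^ (k + 1) * (qq + 1) := by
  obtain ⟨e, f, hf, ha, hd⟩ := h
  obtain ⟨h1, h2⟩ := sphereCard_frame hf c
  rw [natCard_eq_pow, ← pow_add, sphereCard_top, hd] at h1
  rw [natCard_eq_pow, ← pow_add, hd] at h2
  have h3 : sphereCard Q (IsFrame.kernel Q e f) c = qq + 1 :=
    (hf.nondeg_kernel hQ).card_sphere_plane hd
      (fun x hx => Subtype.ext (ha x x.2 hx)) hc
  rw [h3, h2] at h1
  exact h1

/-! ### Translation to the orthogonal of a pair -/

variable (p : HP Q)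

theorem sph_add (c : F) :
    (sph p c).card + (if c = 0 then 1 else 0) = zc (restr Q p.W) c := by
  classical
  rw [zc, Nat.card_eq_fintype_card, Fintype.card_subtype]
  rcases eq_or_ne c 0 with rfl | hc
  · rw [if_pos rfl]
    have e : (Finset.univ.filter fun u : p.W => restr Q p.W u = 0) = insert 0 (sph p 0) := by
      ext u
      simp only [Finset.mem_filter, Finset.mem_univ, true_and, Finset.mem_insert, mem_sph]
      constructor
      · intro h
        rcases eq_or_ne u 0 with hu | hu
        · exact Or.inl hu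
        · exact Or.inr ⟨hu, h⟩
      · rintro (rfl | ⟨-, h⟩)
        · exact QuadraticMap.map_zero _
        · exact h
    rw [e, Finset.card_insert_of_notMem fun h => (mem_sph.1 h).1 rfl]
  · rw [if_neg hc, add_zero]
    congr 1
    ext u
    simp only [Finset.mem_filter, Finset.mem_univ, true_and, mem_sph]
    refine ⟨fun h => h.2, fun h => ⟨?_, h⟩⟩
    rintro rfl
    exact hc (h.symm.trans (QuadraticMap.map_zero _))

theorem sph_zero_add_one : (sph p 0).card + 1 = zc (restr Q p.W) 0 := by
  have := sph_add p 0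
  rwa [if_pos rfl] at this

theorem zc_le_sph (c : F) : zc (restr Q p.W) c ≤ (sph p c).card + 1 := by
  rw [← sph_add p c]
  split_ifs <;> omega

theorem conePerp_le (p' : HP (restr Q p.W)) :
    (conePerp p p'.e).card + 1 ≤ qq * zc (restr (restr Q p.W) p'.W) 0 := by
  classical
  let T : Finset p.W := Finset.univ.filter fun u => restr Q p.W u = 0 ∧ polar (restr Q p.W) p'.e u = 0
  let G : Finset (F × p'.W) :=
    Finset.univ ×ˢ Finset.univ.filter fun w : p'.W => restr (restr Q p.W) p'.W w = 0
  have hT : insert 0 (conePerp p p'.e) ⊆ T := by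
    intro u hu
    simp only [T, Finset.mem_filter, Finset.mem_univ, true_and]
    rcases Finset.mem_insert.1 hu with rfl | hu
    · exact ⟨QuadraticMap.map_zero _, polar_zero_right (Q := restr Q p.W) _⟩
    · simp only [conePerp, Finset.mem_filter, mem_sph] at hu
      exact ⟨hu.1.2, by rw [polar_restr, polar_comm]; exact hu.2⟩
  have h1 : T.card ≤ G.card := by
    refine Finset.card_le_card_of_injOn (fun u => (polar (restr Q p.W) p'.f u, ⟨_, p'.split u⟩)) ?_ ?_
    · intro u hu
      simp only [Finset.mem_coe, T, Finset.mem_filter, Finset.mem_univ, true_and] at hu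
      simp only [Finset.mem_coe, G, Finset.mem_product, Finset.mem_filter, Finset.mem_univ, true_and]
      rw [restr_apply]
      simp only [hu.2, zero_smul, sub_zero, qmap_sub, qmap_smul, p'.he, polar_smul_left',
        polar_comm (⇑(restr Q p.W)) u, hu.1]
      ring
    · intro u hu v hv huv
      simp only [Finset.mem_coe, T, Finset.mem_filter, Finset.mem_univ, true_and] at hu hv
      simp only [Prod.mk.injEq, Subtype.mk.injEq, hu.2, hv.2, zero_smul, sub_zero] at huv
      have h := huv.2
      rw [huv.1] at h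
      exact sub_left_injective h
  have h2 : G.card = qq * zc (restr (restr Q p.W) p'.W) 0 := by
    rw [Finset.card_product, zc, Nat.card_eq_fintype_card (α := F), Finset.card_univ,
      Nat.card_eq_fintype_card, Fintype.card_subtype]
  have h3 : (0 : p.W) ∉ conePerp p p'.e := fun h => by
    simp only [conePerp, Finset.mem_filter, mem_sph] at h
    exact h.1.1 rfl
  have := Finset.card_le_card hT
  rw [Finset.card_insert_of_notMem h3] at this
  omega

theorem count_ok (p' : HP (restr Q p.W))
    (h : 2 * (qq * zc (restr (restr Q p.W) p'.W) 0) ≤ zc (restr Q p.W) 0) :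
    2 * (conePerp p p'.e).card < (sph p 0).card := by
  have := conePerp_le p p'
  have := sph_zero_add_one p
  omega

end Cfsg.Agent.H53.OmLow
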