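import Mathlib

/-!
Invariant inner products and weight projections of abelian subgroups in complex representations.
-/

set_option autoImplicit false
set_option linter.unusedSectionVars false

namespace Cfsg.Agent.H53.OmLow

open Finset
open scoped ComplexConjugate

/-- An invariant inner product. -/
structure InvForm {G : Type*} [Monoid G] {M : Type*} [AddCommGroup M] [Module ℂ M]
    (ρ : Representation ℂ G M) where
  /-- the form -/
  ip : M →ₗ⋆[ℂ] M →ₗ[ℂ] ℂ
  conj_symm : ∀ x y, conj (ip x y) = ip y x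
  pos : ∀ x, x ≠ 0 → 0 < (ip x x).re
  inv : ∀ g x y, ip (ρ g x) (ρ g y) = ip x y

namespace InvForm

variable {G : Type*} [Group G] {M : Type*} [AddCommGroup M] [Module ℂ M]
variable {ρ : Representation ℂ G M} (B : InvForm ρ)

/-- The squared norm. -/
def nsq (x : M) : ℝ := (B.ip x x).re

theorem nsq_nonneg (x : M) : 0 ≤ B.nsq x := by
  rcases eq_or_ne x 0 with rfl | hx
  · simp [nsq]
  · exact (B.pos x hx).le

theorem nsq_pos {x : M} (hx : x ≠ 0) : 0 < B.nsq x := B.pos x hx

theorem nsq_zero : B.nsq 0 = 0 := by simp [nsq]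

theorem eq_zero_of_ip_self {x : M} (h : B.ip x x = 0) : x = 0 := by
  by_contra hx
  have := B.pos x hx
  rw [h, Complex.zero_re] at this
  exact lt_irrefl 0 this

theorem eq_zero_of_nsq_nonpos {x : M} (h : B.nsq x ≤ 0) : x = 0 := by
  by_contra hx
  exact absurd (B.nsq_pos hx) (not_lt.2 h)

theorem nsq_map (g : G) (x : M) : B.nsq (ρ g x) = B.nsq x := by rw [nsq, nsq, B.inv]

theorem adjoint (g : G) (x y : M) : B.ip (ρ g x) y = B.ip x (ρ g⁻¹ y) := by
  conv_lhs => rw [← show ρ g (ρ g⁻¹ y) = y by
    rw [← Module.End.mul_apply, ← map_mul, mul_inv_cancel, map_one, Module.End.one_apply], B.inv]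

theorem ip_swap_zero {x y : M} (h : B.ip x y = 0) : B.ip y x = 0 := by
  rw [← B.conj_symm, h, map_zero]

/-- Restriction along a homomorphism to an invariant subspace. -/
def restrict {H : Type*} [Group H] (S : H →* G) {C : Submodule ℂ M} (σ : Representation ℂ H C)
    (hσ : ∀ h (x : C), (σ h x : M) = ρ (S h) x) : InvForm σ where
  ip := LinearMap.mk₂'ₛₗ (starRingEnd ℂ) (RingHom.id ℂ) (fun x y : C => B.ip x y)
    (fun x x' y => by simp) (fun c x y => by simp) (fun x y y' => by simp) (fun c x y => by simp)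
  conj_symm x y := by simp [B.conj_symm]
  pos x hx := B.pos x fun h => hx (Subtype.ext h)
  inv h x y := by
    simp only [LinearMap.mk₂'ₛₗ_apply, hσ, B.inv]

theorem restrict_ip {H : Type*} [Group H] (S : H →* G) {C : Submodule ℂ M} (σ : Representation ℂ H C)
    (hσ : ∀ h (x : C), (σ h x : M) = ρ (S h) x) (x y : C) :
    (B.restrict S σ hσ).ip x y = B.ip x y := rfl

end InvForm

/-- Every representation of a finite group carries an invariant inner product. -/
theorem exists_invForm {G : Type*} [Group G] [Finite G] {k : ℕ}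
    (ρ : Representation ℂ G (Fin k → ℂ)) : Nonempty (InvForm ρ) := by
  have := Fintype.ofFinite G
  refine ⟨⟨LinearMap.mk₂'ₛₗ (starRingEnd ℂ) (RingHom.id ℂ)
    (fun x y => ∑ g, ∑ i, conj (ρ g x i) * ρ g y i)
    (fun x x' y => by simp [Finset.sum_add_distrib, add_mul])
    (fun c x y => by simp [Finset.mul_sum, mul_assoc])
    (fun x y y' => by simp [Finset.sum_add_distrib, mul_add])
    (fun c x y => by simp [Finset.mul_sum, mul_left_comm]), ?_, ?_, ?_⟩⟩
  · intro x y
    simp [map_sum, mul_comm]
  · intro x hx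
    simp only [LinearMap.mk₂'ₛₗ_apply, Complex.re_sum, ← Complex.normSq_eq_conj_mul_self,
      Complex.ofReal_re]
    obtain ⟨i, hi⟩ := Function.ne_iff.1 hx
    refine Finset.sum_pos' (fun g _ => Finset.sum_nonneg fun j _ => Complex.normSq_nonneg _)
      ⟨1, Finset.mem_univ _, Finset.sum_pos' (fun j _ => Complex.normSq_nonneg _)
        ⟨i, Finset.mem_univ _, ?_⟩⟩
    rw [map_one, Module.End.one_apply]
    exact Complex.normSq_pos.2 hi
  · intro h x y
    simp only [LinearMap.mk₂'ₛₗ_apply, ← Module.End.mul_apply, ← map_mul]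
    exact Fintype.sum_bijective (· * h) (Group.mulRight_bijective h) _ _ fun g => rfl

end Cfsg.Agent.H53.OmLow
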