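import Cfsg.Agent.Orthogonal.Eichler
import Cfsg.Agent.Orthogonal.Extend

/-!
Hyperbolic pairs, their orthogonals, and the Eichler elements moving between two pairs.
-/

set_option autoImplicit false
set_option linter.unusedSectionVars false

namespace Cfsg.Agent.H53.OmLow

open QuadraticMap Module
open Cfsg.Agent.Orthogonal

variable {F V : Type*} [Field F] [AddCommGroup V] [Module F V]

/-- A hyperbolic pair. -/
structure HP (Q : QuadraticForm F V) where
  e : V
  f : V
  he : Q e = 0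
  hf : Q f = 0
  hef : polar Q e f = 1

variable {Q : QuadraticForm F V}

namespace HP

variable (p : HP Q)

theorem hfe : polar Q p.f p.e = 1 := by rw [polar_comm]; exact p.hef

theorem e_ne : p.e ≠ 0 := fun h => by
  have := p.hef
  rw [h, polar_zero_left] at this
  exact zero_ne_one this

theorem f_ne : p.f ≠ 0 := fun h => by
  have := p.hef
  rw [h, polar_zero_right] at this
  exact zero_ne_one this

/-- The pair in the other order. -/
def swap : HP Q := ⟨p.f, p.e, p.hf, p.he, p.hfe⟩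

/-- The orthogonal of the pair. -/
def W : Submodule F V := perp Q (Submodule.span F {p.e, p.f})

theorem mem_W {x : V} : x ∈ p.W ↔ polar Q p.e x = 0 ∧ polar Q p.f x = 0 := mem_perp_span_pair Q

theorem e_w (w : p.W) : polar Q p.e (w : V) = 0 := (p.mem_W.1 w.2).1

theorem f_w (w : p.W) : polar Q p.f (w : V) = 0 := (p.mem_W.1 w.2).2

theorem w_e (w : p.W) : polar Q (w : V) p.e = 0 := by rw [polar_comm]; exact p.e_w w

theorem w_f (w : p.W) : polar Q (w : V) p.f = 0 := by rw [polar_comm]; exact p.f_w w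

theorem qe (a : F) : Q (a • p.e) = 0 := by rw [qmap_smul, p.he, mul_zero]

variable [FiniteDimensional F V]

theorem nd (hQ : Nondeg Q) : Nondeg (restr Q p.W) := hQ.nondeg_hyperbolic_perp p.he p.hf p.hef

theorem finrank_W (hQ : Nondeg Q) : finrank F p.W + 2 = finrank F V :=
  hQ.finrank_hyperbolic_perp p.he p.hf p.hef

omit [FiniteDimensional F V] in
/-- Splitting off the pair. -/
theorem split (x : V) : x - polar Q p.f x • p.e - polar Q p.e x • p.f ∈ p.W := by
  rw [p.mem_W]
  simp only [polar_sub_right, polar_smul_right', polar_self', p.he, p.hf, p.hef, p.hfe]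
  constructor <;> ring

omit [FiniteDimensional F V] in
/-- An element fixing the pair and the orthogonal pointwise is trivial. -/
theorem ext_hp {g h : O Q} (he : (g : V ≃ₗ[F] V) p.e = (h : V ≃ₗ[F] V) p.e)
    (hf : (g : V ≃ₗ[F] V) p.f = (h : V ≃ₗ[F] V) p.f)
    (hW : ∀ x ∈ p.W, (g : V ≃ₗ[F] V) x = (h : V ≃ₗ[F] V) x) : g = h := by
  refine O.ext_app fun x => ?_
  have e : x = (x - polar Q p.f x • p.e - polar Q p.e x • p.f) + polar Q p.f x • p.e +
      polar Q p.e x • p.f := by abel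
  rw [e]
  simp only [map_add, map_smul, he, hf, hW _ (p.split x)]

end HP

theorem sie_zero (u : V) (hu : Q u = 0) (h : polar Q u (0 : V) = 0) : sie u 0 hu h = 1 :=
  O.ext_app fun x => sieLin_zero u x

/-- Totally singular pairs can be exchanged. -/
theorem sie_swap {u w : V} (hu : Q u = 0) (hw : polar Q u w = 0) (hQw : Q w = 0) :
    sie u w hu hw = sie w (-u) hQw (by rw [polar_neg_right, polar_comm, hw, neg_zero]) :=
  O.ext_app fun x => by
    rw [sie_app, sie_app, QuadraticMap.map_neg, hQw, hu, polar_neg_left]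
    module

/-- The Eichler element as an element of the group generated by all of them. -/
noncomputable def sg (u w : V) (hu : Q u = 0) (hw : polar Q u w = 0) : sieGroup Q :=
  ⟨sie u w hu hw, sie_mem hu hw⟩

theorem sg_val {u w : V} (hu : Q u = 0) (hw : polar Q u w = 0) :
    (sg u w hu hw : O Q) = sie u w hu hw := rfl

theorem sg_congr {u w u' w' : V} {hu : Q u = 0} {hw : polar Q u w = 0} {hu' : Q u' = 0}
    {hw' : polar Q u' w' = 0} (h1 : u = u') (h2 : w = w') : sg u w hu hw = sg u' w' hu' hw' := by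
  subst h1 h2; rfl

theorem sg_mul {u w w' : V} (hu : Q u = 0) (hw : polar Q u w = 0) (hw' : polar Q u w' = 0) :
    sg u w hu hw * sg u w' hu hw' =
      sg u (w + w') hu (by rw [polar_add_right, hw, hw', add_zero]) :=
  Subtype.ext (sie_mul hu hw hw')

theorem sg_conj {u w : V} (hu : Q u = 0) (hw : polar Q u w = 0) (g : sieGroup Q) :
    g * sg u w hu hw * g⁻¹ = sg (((g : O Q) : V ≃ₗ[F] V) u) (((g : O Q) : V ≃ₗ[F] V) w)
      (by rw [O.map_app]; exact hu) (by rw [O.polar_app]; exact hw) :=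
  Subtype.ext (sie_conj hu hw (g : O Q))

theorem sg_swap {u w : V} (hu : Q u = 0) (hw : polar Q u w = 0) (hQw : Q w = 0) :
    sg u w hu hw = sg w (-u) hQw (by rw [polar_neg_right, polar_comm, hw, neg_zero]) :=
  Subtype.ext (sie_swap hu hw hQw)

/-- Two pairs orthogonal to each other. -/
def Orth (p p' : HP Q) : Prop :=
  polar Q p.e p'.e = 0 ∧ polar Q p.e p'.f = 0 ∧ polar Q p.f p'.e = 0 ∧ polar Q p.f p'.f = 0

theorem Orth.symm {p p' : HP Q} (h : Orth p p') : Orth p' p := by
  obtain ⟨h1, h2, h3, h4⟩ := h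
  exact ⟨by rw [polar_comm]; exact h1, by rw [polar_comm]; exact h3,
    by rw [polar_comm]; exact h2, by rw [polar_comm]; exact h4⟩

theorem Orth.swap_right {p p' : HP Q} (h : Orth p p') : Orth p p'.swap :=
  ⟨h.2.1, h.1, h.2.2.2, h.2.2.1⟩

theorem Orth.swap_left {p p' : HP Q} (h : Orth p p') : Orth p.swap p' :=
  ⟨h.2.2.1, h.2.2.2, h.1, h.2.1⟩

/-- The element exchanging the singular points of two orthogonal pairs. -/
noncomputable def gEl (p p' : HP Q) (h : Orth p p') : sieGroup Q :=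
  sg p'.e p.f p'.he (by rw [polar_comm, h.2.2.1]) *
  sg p.e (-p'.f) p.he (by rw [polar_neg_right, h.2.1, neg_zero]) *
  sg p'.e p.f p'.he (by rw [polar_comm, h.2.2.1])

section gEl

variable {p p' : HP Q} (h : Orth p p')

theorem gEl_apply (x : V) :
    ((gEl p p' h : O Q) : V ≃ₗ[F] V) x = x + (polar Q p.f x) • (p'.e - p.e) -
      (polar Q p'.f x) • (p'.e + p.e) + (polar Q p.e x) • (p'.f - p.f) -
      (polar Q p'.e x) • (p'.f + p.f) := by
  obtain ⟨h1, h2, h3, h4⟩ := h
  simp only [gEl, Subgroup.coe_mul, mul_app, sg_val, sie_app, QuadraticMap.map_neg, p.hf, p'.hf,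
    zero_mul, sub_zero, polar_neg_left, polar_add_right, polar_sub_right, polar_smul_right',
    polar_neg_right, polar_self', p.he, p'.he, p.hef, p.hfe, p'.hef, p'.hfe, h1, h2, h3, h4,
    polar_comm (⇑Q) p'.e p.e, polar_comm (⇑Q) p'.f p.e, polar_comm (⇑Q) p'.e p.f,
    polar_comm (⇑Q) p'.f p.f]
  module

theorem gEl_e : ((gEl p p' h : O Q) : V ≃ₗ[F] V) p.e = p'.e := by
  obtain ⟨h1, h2, h3, h4⟩ := id h
  rw [gEl_apply, p.hfe, polar_comm (⇑Q) p'.f, h2, polar_self', p.he, polar_comm (⇑Q) p'.e, h1]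
  module

theorem gEl_f : ((gEl p p' h : O Q) : V ≃ₗ[F] V) p.f = p'.f := by
  obtain ⟨h1, h2, h3, h4⟩ := id h
  rw [gEl_apply, p.hef, polar_comm (⇑Q) p'.f, h4, polar_self', p.hf, polar_comm (⇑Q) p'.e, h3]
  module

theorem gEl_e' : ((gEl p p' h : O Q) : V ≃ₗ[F] V) p'.e = -p.e := by
  obtain ⟨h1, h2, h3, h4⟩ := id h
  rw [gEl_apply, h3, p'.hfe, polar_self', p'.he, h1]
  module

theorem gEl_f' : ((gEl p p' h : O Q) : V ≃ₗ[F] V) p'.f = -p.f := by
  obtain ⟨h1, h2, h3, h4⟩ := id h
  rw [gEl_apply, h4, p'.hef, polar_self', p'.hf, h2]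
  module

theorem gEl_fix {x : V} (h1 : polar Q p.e x = 0) (h2 : polar Q p.f x = 0)
    (h3 : polar Q p'.e x = 0) (h4 : polar Q p'.f x = 0) :
    ((gEl p p' h : O Q) : V ≃ₗ[F] V) x = x := by
  rw [gEl_apply, h1, h2, h3, h4]
  module

end gEl

theorem inv_app {g : sieGroup Q} {x y : V} (h : ((g : O Q) : V ≃ₗ[F] V) x = y) :
    (((g⁻¹ : sieGroup Q) : O Q) : V ≃ₗ[F] V) y = x := by
  rw [← h, Subgroup.coe_inv, ← mul_app, ← Subgroup.coe_mul, inv_mul_cancel]
  rfl

/-! ### Passing to the orthogonal of a pair -/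

variable [FiniteDimensional F V]

theorem map_sieGroup_le (hQ : Nondeg Q) {U : Submodule F V} (hU : Nondeg (restr Q U)) :
    (sieGroup (restr Q U)).map (extendO hQ hU) ≤ sieGroup Q := by
  rw [sieGroup, MonoidHom.map_closure, Subgroup.closure_le]
  rintro _ ⟨_, ⟨u, w, hu, hw, rfl⟩, rfl⟩
  rw [polar_restr] at hw
  refine Subgroup.subset_closure ⟨(u : V), (w : V), (show Q (u : V) = 0 from hu), hw, ?_⟩
  symm
  refine eq_glue_of_eqOn (hQ.isCompl_perp hU) (perp_ortho U) _ _ (fun x => ?_) fun y => ?_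
  · show _ = (((sie u w hu (by rw [polar_restr]; exact hw) : O (restr Q U)) : U ≃ₗ[F] U) x : V)
    rw [sie_app, sie_app, polar_restr, polar_restr, restr_apply, Submodule.coe_sub,
      Submodule.coe_add, Submodule.coe_smul, Submodule.coe_smul]
  · exact sie_fix' _ _ (y.2 u u.2) (y.2 w w.2)

/-- The Eichler group of the orthogonal of a pair inside the whole one. -/
noncomputable def emb (hQ : Nondeg Q) (p : HP Q) : sieGroup (restr Q p.W) →* sieGroup Q where
  toFun h := ⟨extendO hQ (p.nd hQ) (h : O (restr Q p.W)),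
    map_sieGroup_le hQ (p.nd hQ) ⟨_, h.2, rfl⟩⟩
  map_one' := Subtype.ext (by simp)
  map_mul' a b := Subtype.ext (by simp)

section emb

variable (hQ : Nondeg Q) (p : HP Q)

theorem emb_app (h : sieGroup (restr Q p.W)) (w : p.W) :
    ((emb hQ p h : O Q) : V ≃ₗ[F] V) w = (((h : O (restr Q p.W)) : p.W ≃ₗ[F] p.W) w : V) :=
  extendO_app hQ (p.nd hQ) _ w

theorem emb_perp (h : sieGroup (restr Q p.W)) {y : V} (hy : y ∈ perp Q p.W) :
    ((emb hQ p h : O Q) : V ≃ₗ[F] V) y = y :=
  extendO_app_perp hQ (p.nd hQ) _ hy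

theorem emb_e (h : sieGroup (restr Q p.W)) : ((emb hQ p h : O Q) : V ≃ₗ[F] V) p.e = p.e :=
  emb_perp hQ p h (perp_perp_le Q _ (Submodule.subset_span (Set.mem_insert _ _)))

theorem emb_f (h : sieGroup (restr Q p.W)) : ((emb hQ p h : O Q) : V ≃ₗ[F] V) p.f = p.f :=
  emb_perp hQ p h (perp_perp_le Q _ (Submodule.subset_span (Or.inr rfl)))

theorem emb_sg {u w : p.W} (hu : restr Q p.W u = 0) (hw : polar (restr Q p.W) u w = 0) :
    emb hQ p (sg u w hu hw) =
      sg (u : V) (w : V) (show Q (u : V) = 0 from hu) (by rwa [polar_restr] at hw) := by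
  refine Subtype.ext (p.ext_hp ?_ ?_ fun x hx => ?_)
  · rw [emb_e, sg_val, sie_fix' _ _ (p.w_e u) (p.w_e w)]
  · rw [emb_f, sg_val, sie_fix' _ _ (p.w_f u) (p.w_f w)]
  · rw [emb_app hQ p _ ⟨x, hx⟩, sg_val, sg_val, sie_app, sie_app, polar_restr, polar_restr,
      restr_apply, Submodule.coe_sub, Submodule.coe_add, Submodule.coe_smul, Submodule.coe_smul]

end emb

end Cfsg.Agent.H53.OmLow
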