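import Cfsg.Agent.H53.OmLow.Step

/-!
Hypotheses on the weights of a pair and their passage to an orthogonal pair; dimension counting.
-/

set_option autoImplicit false
set_option linter.unusedSectionVars false

namespace Cfsg.Agent.H53.OmLow

open QuadraticMap Module Finset
open Cfsg.Agent.Orthogonal

attribute [local instance] Fintype.ofFinite Classical.propDecidable

variable {F V : Type*} [Field F] [Finite F] [AddCommGroup V] [Module F V] [FiniteDimensional F V]
variable {Q : QuadraticForm F V}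
variable {M : Type*} [AddCommGroup M] [Module ℂ M]

/-- The action inside the orthogonal. -/
abbrev apW {p : HP Q} (h : sieGroup (restr Q p.W)) : p.W ≃ₗ[F] p.W := (h : O (restr Q p.W))

/-- The non-zero weights are the vectors of one norm and are mildly invariant. -/
structure HypW (ρ : Representation ℂ (sieGroup Q) M) (p : HP Q) (c : F) : Prop where
  ne : ∀ u : p.W, u ≠ 0 → Q (u : V) = c → ∃ z, wP ρ p u z ≠ 0
  zero : ∀ u : p.W, u ≠ 0 → Q (u : V) ≠ c → ∀ z, wP ρ p u z = 0
  stabE : ∀ u : p.W, u ≠ 0 → ∀ (a t : p.W) (ha : Q (a : V) = 0)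
    (hat : polar Q (a : V) (t : V) = 0), polar Q (a : V) (u : V) = 0 →
      polar Q (t : V) (u : V) = 0 →
      ∀ z, ρ (sg (a : V) (t : V) ha hat) (wP ρ p u z) = wP ρ p u z

/-- The non-zero weights are the singular vectors and their stabilisers act trivially. -/
structure HypS (ρ : Representation ℂ (sieGroup Q) M) (hQ : Nondeg Q) (p : HP Q) : Prop
    extends HypW ρ p 0 where
  stab : ∀ u : p.W, u ≠ 0 → Q (u : V) = 0 → ∀ h : sieGroup (restr Q p.W), apW h u = u →
    ∀ z, ρ (emb hQ p h) (wP ρ p u z) = wP ρ p u z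

section

variable {ρ : Representation ℂ (sieGroup Q) M} {p : HP Q} (hQ : Nondeg Q) {c : F}

include hQ

theorem wP_eigen_of_Cs (p' : HP (restr Q p.W)) (w : p'.W) (z : Cs ρ p) (t : p'.W) :
    cRep ρ hQ p (xr p' t) (wP (cRep ρ hQ p) p' w z) =
      chi p' w t • wP (cRep ρ hQ p) p' w z :=
  xr_mul_wP_apply _ p' w t z

/-- Components of a vector pulled back from the fixed space are fixed by suitable elements. -/
theorem fixed_of_components {k : sieGroup Q} {m : M}
    (h : ∀ u : p.W, wP ρ p u m ≠ 0 → ρ k (wP ρ p u m) = wP ρ p u m) : ρ k m = m := by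
  conv_lhs => rw [← sum_wP_apply ρ p hQ m, map_sum]
  conv_rhs => rw [← sum_wP_apply ρ p hQ m]
  refine Finset.sum_congr rfl fun u _ => ?_
  by_cases hu : wP ρ p u m = 0
  · rw [hu, map_zero]
  · exact h u hu

theorem HypW.zero_C (H : HypW ρ p c) (p' : HP (restr Q p.W)) {w : p'.W} (hw : w ≠ 0)
    (hc : Q ((w : p.W) : V) ≠ c) (z : Cs ρ p) : wP (cRep ρ hQ p) p' w z = 0 := by
  obtain ⟨hs, -⟩ := inherit_back ρ hQ p p' _ (wP_eigen_of_Cs hQ p' w z)
  have h0 : ρ (p.gg p')⁻¹ (wP (cRep ρ hQ p) p' w z : M) = 0 := by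
    rw [← sum_wP_apply ρ p hQ (ρ (p.gg p')⁻¹ _)]
    refine Finset.sum_eq_zero fun u _ => ?_
    by_contra hu
    obtain ⟨x, rfl⟩ := hs u hu
    exact hu (H.zero _ (add_smul_ne_zero p p' hw x) (by rw [qval]; exact hc) _)
  refine Subtype.ext ?_
  have := congrArg (ρ (p.gg p')) h0
  rwa [map_apply_inv_eq, map_zero] at this

/-- An element fixing the pairs and a weight fixes the weight vectors. -/
theorem fix_C (p' : HP (restr Q p.W)) {w : p'.W} (z : Cs ρ p) {k : sieGroup Q}
    (hk : k * p.gg p' = p.gg p' * k)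
    (h : ∀ (x : F) (m : M), ρ k (wP ρ p ((w : p.W) + x • p'.e) m) = wP ρ p ((w : p.W) + x • p'.e) m) :
    ρ k (wP (cRep ρ hQ p) p' w z : M) = (wP (cRep ρ hQ p) p' w z : M) := by
  obtain ⟨hs, -⟩ := inherit_back ρ hQ p p' _ (wP_eigen_of_Cs hQ p' w z)
  have h1 : ρ k (ρ (p.gg p')⁻¹ (wP (cRep ρ hQ p) p' w z : M)) =
      ρ (p.gg p')⁻¹ (wP (cRep ρ hQ p) p' w z : M) :=
    fixed_of_components hQ fun u hu => by obtain ⟨x, rfl⟩ := hs u hu; exact h x _
  conv_lhs => rw [← map_apply_inv_eq ρ (p.gg p') (wP (cRep ρ hQ p) p' w z : M)]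
  rw [← Module.End.mul_apply, ← map_mul, hk, map_mul, Module.End.mul_apply, h1, map_apply_inv_eq]

/-- A weight with enough invariance occurs in the fixed space. -/
theorem exists_weight_C (p' : HP (restr Q p.W)) {w : p'.W} (hw : w ≠ 0)
    (hne : ∃ z, wP ρ p (w : p.W) z ≠ 0)
    (hst : ∀ (a t : p.W) (ha : Q (a : V) = 0) (hat : polar Q (a : V) (t : V) = 0),
      polar Q (a : V) ((w : p.W) : V) = 0 → polar Q (t : V) ((w : p.W) : V) = 0 →
      ∀ z, ρ (sg (a : V) (t : V) ha hat) (wP ρ p (w : p.W) z) = wP ρ p (w : p.W) z)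
    (hst' : ∀ x : F, x ≠ 0 → ∀ (a t : p.W) (ha : Q (a : V) = 0)
      (hat : polar Q (a : V) (t : V) = 0), polar Q (a : V) ((x • p'.e : p.W) : V) = 0 →
      polar Q (t : V) ((x • p'.e : p.W) : V) = 0 →
      ∀ z, ρ (sg (a : V) (t : V) ha hat) (wP ρ p (x • p'.e) z) = wP ρ p (x • p'.e) z) :
    ∃ z, wP (cRep ρ hQ p) p' w z ≠ 0 := by
  obtain ⟨z0, hz0⟩ := (p'.nd (p.nd hQ)).exists_polar_eq hw 1
  rw [polar_restr, polar_restr] at hz0
  have hz0' : polar Q ((z0 : p.W) : V) ((w : p.W) : V) = 1 := by rw [polar_comm]; exact hz0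
  have hw' : (w : p.W) ≠ 0 := fun e => hw (Subtype.ext e)
  obtain ⟨y₀, hy₀⟩ := hne
  set y := wP ρ p (w : p.W) y₀ with hy
  let kk : p'.W → sieGroup (restr Q p.W) := xr p'
  let m : M := ∑ x : F, ρ (emb hQ p (kk (x • z0))) y
  have hk : ∀ x : F, apW (kk (x • z0)) (w : p.W) = (w : p.W) + x • p'.e := fun x => by
    show ((sie p'.e ((x • z0 : p'.W) : p.W) p'.he (p'.e_w _) : O (restr Q p.W)) :
      p.W ≃ₗ[F] p.W) (w : p.W) = _
    rw [sie_app]
    rw [p'.e_w w, mul_zero, sub_zero, zero_smul, sub_zero, Submodule.coe_smul, polar_smul_left',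
      polar_restr, hz0', mul_one]
  have hcomp : ∀ (u : p.W) (x : F), u ≠ (w : p.W) + x • p'.e →
      wP ρ p u (ρ (emb hQ p (kk (x • z0))) y) = 0 := fun u x hu => by
    rw [hy, ← Module.End.mul_apply (ρ (emb hQ p (kk (x • z0)))), emb_conj_wP ρ p hQ]
    rw [Module.End.mul_apply, show ((kk (x • z0) : O (restr Q p.W)) : p.W ≃ₗ[F] p.W) (w : p.W) =
      (w : p.W) + x • p'.e from hk x]
    exact wP_apply_ne ρ p hQ hu _
  have hm0 : wP ρ p (w : p.W) m = y := by
    simp only [m, map_sum]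
    rw [Finset.sum_eq_single (0 : F) (fun x _ hx => hcomp _ x fun e => hx ?_) (by simp)]
    · rw [zero_smul, show kk 0 = 1 from xr_zero p', map_one, map_one, Module.End.one_apply, hy,
        wP_idem_apply]
    · have h1 := (left_eq_add.1 e)
      exact (smul_eq_zero.1 h1).resolve_right p'.e_ne
  have hsupp : ∀ u : p.W, wP ρ p u m ≠ 0 → ∃ x : F, u = (w : p.W) + x • p'.e := by
    intro u hu
    by_contra hne
    push Not at hne
    exact hu (by simp only [m, map_sum]; exact Finset.sum_eq_zero fun x _ => hcomp u x (hne x))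
  have hfix : ∀ t : p'.W,
      ρ (sg (p'.e : V) ((t : p.W) : V) (HP.qa p') (polar_W' p p' t)) m = m := by
    intro t
    set τ := polar Q ((w : p.W) : V) ((t : p.W) : V)
    set t1 : p'.W := t - τ • z0
    have ht1 : polar Q ((t1 : p.W) : V) ((w : p.W) : V) = 0 := by
      simp only [t1, Submodule.coe_sub, Submodule.coe_smul, polar_sub_left, polar_smul_left', hz0',
        mul_one, τ, polar_comm (⇑Q) ((t : p.W) : V), sub_self]
    have hy1 : ρ (emb hQ p (kk t1)) y = y := by
      show ρ (emb hQ p (sg _ _ _ _)) y = y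
      rw [emb_sg]
      exact hst p'.e (t1 : p.W) _ _ (polar_W' p p' w) ht1 _
    have et : sg (p'.e : V) ((t : p.W) : V) (HP.qa p') (polar_W' p p' t) = emb hQ p (kk t) := by
      show _ = emb hQ p (sg _ _ _ _)
      rw [emb_sg]
    rw [et]
    simp only [m, map_sum]
    refine Fintype.sum_equiv (Equiv.addRight τ) _ _ fun x => ?_
    rw [← Module.End.mul_apply, ← map_mul, ← map_mul, ← xr_add,
      show t + x • z0 = (x + τ) • z0 + t1 by simp only [t1, add_smul]; abel, xr_add, map_mul,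
      map_mul, Module.End.mul_apply, hy1]
    rfl
  obtain ⟨hmem, heig⟩ := inherit_fwd ρ hQ p p' hw (fun x t z hx => hst' x hx p'.e (t : p.W) _ _
    (by rw [Submodule.coe_smul, polar_smul_right', polar_self', HP.qa p']; ring)
    (by rw [Submodule.coe_smul, polar_smul_right', polar_comm, polar_W' p p' t, mul_zero]) z)
    hsupp hfix
  refine ⟨⟨_, hmem⟩, ?_⟩
  rw [wP_eq_self_of_eigen _ p' w heig]
  intro e
  have := congrArg Subtype.val e
  rw [Submodule.coe_zero] at this
  have h0 : m = 0 := by rw [← map_inv_apply_eq ρ (p.gg p') m]; exact (congrArg _ this).trans (map_zero _)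
  rw [h0, map_zero] at hm0
  exact hy₀ hm0.symm

/-- The weights pass to the orthogonal pair. -/
theorem HypW.next (H : HypW ρ p c) (p' : HP (restr Q p.W)) : HypW (cRep ρ hQ p) p' c where
  zero w hw hc z := H.zero_C hQ p' hw hc z
  ne w hw hc :=
    exists_weight_C hQ p' hw (H.ne _ (fun e => hw (Subtype.ext e)) hc)
      (H.stabE _ fun e => hw (Subtype.ext e))
      fun x hx => H.stabE _ (smul_ne_zero hx p'.e_ne)
  stabE w hw a t ha hat hau htu z := by
    rw [polar_restr] at hau htu hat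
    refine Subtype.ext ?_
    rw [cRep_apply, emb_sg]
    refine fix_C hQ p' z ?_ fun x m => ?_
    · refine gg_conj_fix p p' ?_ ?_ ?_ ?_
      · exact sg_fix _ _ (p.w_e _) (p.w_e _)
      · exact sg_fix _ _ (p.w_f _) (p.w_f _)
      · exact sg_fix _ _ (by rw [polar_comm]; exact polar_W' p p' a)
          (by rw [polar_comm]; exact polar_W' p p' t)
      · exact sg_fix _ _ (by rw [← polar_restr]; exact p'.w_f a) (by rw [← polar_restr]; exact p'.w_f t)
    · refine H.stabE _ (add_smul_ne_zero p p' hw x) (a : p.W) (t : p.W) _ _ ?_ ?_ m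
      · rw [Submodule.coe_add, Submodule.coe_smul, polar_add_right, polar_smul_right', hau,
          polar_comm, polar_W' p p' a, mul_zero, zero_add]
      · rw [Submodule.coe_add, Submodule.coe_smul, polar_add_right, polar_smul_right', htu,
          polar_comm, polar_W' p p' t, mul_zero, zero_add]

/-- The stronger hypothesis passes to the orthogonal pair. -/
theorem HypS.next (H : HypS ρ hQ p) (p' : HP (restr Q p.W)) :
    HypS (cRep ρ hQ p) (p.nd hQ) p' where
  toHypW := H.toHypW.next hQ p'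
  stab w hw hc h hfix z := by
    refine Subtype.ext ?_
    rw [cRep_apply]
    set h' := emb (p.nd hQ) p' h
    have he : apW h' p'.e = p'.e := emb_e (p.nd hQ) p' h
    have hw' : apW h' (w : p.W) = (w : p.W) :=
      (emb_app (p.nd hQ) p' h w).trans (congrArg Subtype.val hfix)
    refine fix_C hQ p' z ?_ fun x m => ?_
    · exact gg_conj_fix p p' (emb_e hQ p h') (emb_f hQ p h')
        ((emb_app hQ p h' p'.e).trans (congrArg Subtype.val he))
        ((emb_app hQ p h' p'.f).trans (congrArg Subtype.val (emb_f (p.nd hQ) p' h)))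
    · refine H.stab _ (add_smul_ne_zero p p' hw x) (by rw [qval]; exact hc) h' ?_ m
      show apW h' ((w : p.W) + x • p'.e) = _
      rw [map_add, map_smul, hw', he]

end

/-! ### Counting -/

section Dim

variable [FiniteDimensional ℂ M] (ρ : Representation ℂ (sieGroup Q) M)

theorem finrank_eq_sum (hQ : Nondeg Q) (p : HP Q) :
    finrank ℂ M = ∑ u, finrank ℂ (LinearMap.range (wP ρ p u)) := by
  refine Nat.cast_injective (R := ℂ) ?_
  rw [Nat.cast_sum, ← LinearMap.trace_one (R := ℂ) (M := M), ← sum_wP ρ p hQ, map_sum]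
  exact Finset.sum_congr rfl fun u _ => LinearMap.IsProj.trace
    (LinearMap.IsIdempotentElem.isProj_range _ (wP_idem ρ p u))

theorem mul_card_add_le (hQ : Nondeg Q) (p : HP Q) {r : ℕ} (S : Finset p.W) (h0 : (0 : p.W) ∉ S)
    (hS : ∀ u ∈ S, r ≤ finrank ℂ (LinearMap.range (wP ρ p u))) :
    r * S.card + finrank ℂ (Cs ρ p) ≤ finrank ℂ M := by
  rw [finrank_eq_sum ρ hQ p, ← Finset.sum_erase_add _ _ (Finset.mem_univ (0 : p.W))]
  refine Nat.add_le_add_right ?_ _
  rw [mul_comm, ← smul_eq_mul, ← Finset.sum_const]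
  exact (Finset.sum_le_sum hS).trans (Finset.sum_le_sum_of_subset
    fun u hu => Finset.mem_erase.2 ⟨fun e => h0 (e ▸ hu), Finset.mem_univ _⟩)

/-- The vectors of a norm in the orthogonal. -/
noncomputable def sph (p : HP Q) (c : F) : Finset p.W :=
  Finset.univ.filter fun u => u ≠ 0 ∧ Q (u : V) = c

theorem mem_sph {p : HP Q} {c : F} {u : p.W} : u ∈ sph p c ↔ u ≠ 0 ∧ Q (u : V) = c := by
  simp [sph]

theorem HypW.card_add_le {ρ : Representation ℂ (sieGroup Q) M} {p : HP Q} {c : F} (hQ : Nondeg Q)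
    (H : HypW ρ p c) : (sph p c).card + finrank ℂ (Cs ρ p) ≤ finrank ℂ M := by
  refine (le_of_eq (by rw [one_mul])).trans
    (mul_card_add_le ρ hQ p (r := 1) (sph p c) (fun h => (mem_sph.1 h).1 rfl) fun u hu => ?_)
  obtain ⟨z, hz⟩ := H.ne u (mem_sph.1 hu).1 (mem_sph.1 hu).2
  refine Nat.one_le_iff_ne_zero.2 fun h => hz ?_
  have := LinearMap.mem_range_self (wP ρ p u) z
  rw [Submodule.finrank_eq_zero.1 h, Submodule.mem_bot] at this
  exact this

end Dim

end Cfsg.Agent.H53.OmLow
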