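import Cfsg.Agent.H53.OmLow.Hyp

/-!
Fixed vectors of the orthogonal of a pair produce fixed vectors in the fixed space of the radical.
-/

set_option autoImplicit false
set_option linter.unusedSectionVars false

namespace Cfsg.Agent.H53.OmLow

open QuadraticMap Module Finset
open Cfsg.Agent.Orthogonal

attribute [local instance] Fintype.ofFinite Classical.propDecidable

variable {F V : Type*} [Field F] [Finite F] [AddCommGroup V] [Module F V] [FiniteDimensional F V]
variable {Q : QuadraticForm F V}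
variable {M : Type*} [AddCommGroup M] [Module ℂ M] {ρ : Representation ℂ (sieGroup Q) M}
variable (hQ : Nondeg Q) {p : HP Q}

include hQ

/-- A vector fixed by the orthogonal of the pair. -/
def HFix (ρ : Representation ℂ (sieGroup Q) M) (p : HP Q) (x : M) : Prop :=
  ∀ h, ρ (emb hQ p h) x = x

theorem hfix_of_gens {x : M}
    (h : ∀ (u w : V) (hu : Q u = 0) (hw : polar Q u w = 0), u ∈ p.W → w ∈ p.W →
      ρ (sg u w hu hw) x = x) : HFix hQ ρ p x := by
  rintro ⟨k, hk⟩
  induction hk using Subgroup.closure_induction with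
  | mem y hy =>
    obtain ⟨u, w, hu, hw, rfl⟩ := hy
    show ρ (emb hQ p (sg u w hu hw)) x = x
    rw [emb_sg]
    exact h _ _ _ _ u.2 w.2
  | one =>
    show ρ (emb hQ p 1) x = x
    rw [map_one, map_one, Module.End.one_apply]
  | mul a b ha hb iha ihb =>
    show ρ (emb hQ p (⟨a, ha⟩ * ⟨b, hb⟩)) x = x
    rw [map_mul, map_mul, Module.End.mul_apply, ihb, iha]
  | inv a ha iha =>
    show ρ (emb hQ p (⟨a, ha⟩⁻¹)) x = x
    conv_lhs => arg 2; rw [← iha]
    rw [← Module.End.mul_apply, ← map_mul, ← map_mul]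
    show ρ (emb hQ p (⟨a, ha⟩⁻¹ * ⟨a, ha⟩)) x = x
    rw [inv_mul_cancel, map_one, map_one, Module.End.one_apply]

theorem HFix.sg_apply {x : M} (h : HFix hQ ρ p x) (u w : p.W) (hu : Q (u : V) = 0)
    (hw : polar Q (u : V) (w : V) = 0) : ρ (sg (u : V) (w : V) hu hw) x = x := by
  have hu' : restr Q p.W u = 0 := hu
  have hw' : polar (restr Q p.W) u w = 0 := by rw [polar_restr]; exact hw
  exact (congrArg (fun k => ρ k x) (emb_sg hQ p hu' hw')).symm.trans (h _)

theorem HFix.conj {x : M} (h : HFix hQ ρ p x) (g : sieGroup Q)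
    (hg : ∀ w ∈ p.W, ap g⁻¹ w ∈ p.W) : HFix hQ ρ p (ρ g x) :=
  hfix_of_gens hQ fun u w hu hw huW hwW => by
    have hgu : ap g (ap g⁻¹ u) = u := by rw [← ap_mul, mul_inv_cancel]; rfl
    have hgw : ap g (ap g⁻¹ w) = w := by rw [← ap_mul, mul_inv_cancel]; rfl
    rw [← Module.End.mul_apply, ← map_mul, inv_conj_sg hu hw g hgu hgw, map_mul, Module.End.mul_apply]
    congr 1
    exact h.sg_apply hQ ⟨_, hg u huW⟩ ⟨_, hg w hwW⟩ _ _

theorem HFix.wP_map {x : M} (h : HFix hQ ρ p x) (k : sieGroup (restr Q p.W)) (u : p.W) :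
    wP ρ p (apW k u) x = ρ (emb hQ p k) (wP ρ p u x) := by
  conv_rhs => rw [← Module.End.mul_apply, emb_conj_wP ρ p hQ, Module.End.mul_apply, h k]

variable (B : InvForm ρ)

/-- The singular vectors of the orthogonal perpendicular to a given one. -/
noncomputable def conePerp (p : HP Q) (a : p.W) : Finset p.W :=
  (sph p 0).filter fun u => polar Q (u : V) (a : V) = 0

omit hQ in
theorem map_cone (k : sieGroup (restr Q p.W)) {u : p.W} (hu : u ∈ sph p 0) :
    apW k u ∈ sph p 0 := by
  rw [mem_sph] at hu ⊢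
  refine ⟨fun e => hu.1 ((LinearEquiv.map_eq_zero_iff _).1 e), ?_⟩
  show restr Q p.W (apW k u) = 0
  rw [O.map_app]; exact hu.2

omit hQ in
theorem conePerp_map (k : sieGroup (restr Q p.W)) (a : p.W) :
    conePerp p (apW k a) = (conePerp p a).map (apW k).toEquiv.toEmbedding := by
  refine Finset.ext fun u => ?_
  rw [Finset.mem_map_equiv]
  simp only [conePerp, Finset.mem_filter]
  have hu : apW k ((apW k).toEquiv.symm u) = u := (apW k).toEquiv.apply_symm_apply u
  refine and_congr ⟨fun h => map_cone k⁻¹ h, fun h => hu ▸ map_cone k h⟩ ?_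
  rw [← polar_restr, ← polar_restr]
  conv_lhs => rw [← hu, O.polar_app]

/-- A function invariant under the group and scalars is constant on the singular vectors. -/
theorem const_on_cone {β : Type*} (hW3 : 3 ≤ finrank F p.W) (f : p.W → β)
    (h1 : ∀ (k : sieGroup (restr Q p.W)) (a : p.W), f (apW k a) = f a)
    (h2 : ∀ (s : F) (a : p.W), s ≠ 0 → f (s • a) = f a) {a a' : p.W} (ha : a ∈ sph p 0)
    (ha' : a' ∈ sph p 0) : f a = f a' := by
  rw [mem_sph] at ha ha'
  obtain ⟨g, hg, s, hs, hgs⟩ := exists_sie_point (p.nd hQ) hW3 ha.1 ha'.1 ha.2 ha'.2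
  rw [← h1 ⟨g, hg⟩ a, show apW ⟨g, hg⟩ a = s • a' from hgs, h2 s a' hs]

theorem line_ratio (hW3 : 3 ≤ finrank F p.W) {x : M} (hx : HFix hQ ρ p x)
    (hsupp : ∀ u, wP ρ p u x ≠ 0 → u ∈ sph p 0) {a : p.W} (ha : a ∈ sph p 0) :
    (sph p 0).card * (lineAvg p B a x).re = (conePerp p a).card * B.nsq x := by
  set f : p.W → ℝ := fun a' => ∑ u ∈ conePerp p a', B.nsq (wP ρ p u x) with hf
  have hkz : ∀ (k : sieGroup (restr Q p.W)) (u : p.W),
      B.nsq (wP ρ p (apW k u) x) = B.nsq (wP ρ p u x) := fun k u => by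
    rw [hx.wP_map hQ k u, InvForm.nsq_map]
  have hperp := fun k a' => conePerp_map (p := p) k a'
  have hscal : ∀ (s : F) (a' : p.W), s ≠ 0 → conePerp p (s • a') = conePerp p a' := fun s a' hs => by
    refine Finset.filter_congr fun u _ => ?_
    rw [Submodule.coe_smul, polar_smul_right', mul_eq_zero, or_iff_right hs]
  have hfc : ∀ a' ∈ sph p 0, f a' = f a := fun a' ha' => by
    refine const_on_cone hQ hW3 f (fun k b => ?_) (fun s b hs => ?_) ha' ha
    · simp only [hf, hperp, Finset.sum_map]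
      exact Finset.sum_congr rfl fun u _ => hkz k u
    · simp only [hf, hscal s b hs]
  have hMc : ∀ u ∈ sph p 0, (conePerp p u).card = (conePerp p a).card := fun u hu => by
    refine const_on_cone hQ hW3 (fun b => (conePerp p b).card) (fun k b => ?_)
      (fun s b hs => by simp only [hscal s b hs]) hu ha
    simp only [hperp, Finset.card_map]
  have hz : ∀ u, u ∉ sph p 0 → B.nsq (wP ρ p u x) = 0 := fun u hu => by
    rw [Classical.not_not.1 fun h => hu (hsupp u h), InvForm.nsq_zero]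
  have hla : (lineAvg p B a x).re = f a := by
    rw [lineAvg_eq p B hQ, hf]
    refine (Finset.sum_subset (fun u hu => ?_) fun u hu hu' => hz u fun h => hu' ?_).symm
    · simp only [conePerp, Finset.mem_filter] at hu
      simp [hu.2]
    · simp only [Finset.mem_filter] at hu
      simp [conePerp, h, hu.2]
  have hnsq : B.nsq x = ∑ u ∈ sph p 0, B.nsq (wP ρ p u x) := by
    rw [nsq_eq_sum p B hQ]
    exact (Finset.sum_subset (Finset.subset_univ _) fun u _ hu => hz u hu).symm
  rw [hla, ← smul_eq_mul (a := ((sph p 0).card : ℝ)), Nat.cast_smul_eq_nsmul, ← Finset.sum_const,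
    ← Finset.sum_congr rfl hfc, hnsq, Finset.mul_sum]
  simp only [hf, conePerp, Finset.sum_filter]
  rw [Finset.sum_comm]
  refine Finset.sum_congr rfl fun u hu => ?_
  rw [← Finset.sum_filter, Finset.sum_const, nsmul_eq_mul]
  have : ((sph p 0).filter fun a' : p.W => polar Q (u : V) (a' : V) = 0) = conePerp p u :=
    Finset.filter_congr fun a' _ => by rw [polar_comm]
  rw [this, hMc u hu]
  rfl

/-- The second exchanging element. -/
noncomputable def gprime (p : HP Q) (p' : HP (restr Q p.W)) : sieGroup Q :=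
  p.gg p'.swap * p.gg p'

omit hQ in
theorem gprime_inv_mem (p' : HP (restr Q p.W)) (w : V) (hw : w ∈ p.W) :
    ap (gprime p p')⁻¹ w ∈ p.W := by
  have h1 : ap (gprime p p') p.e = -p.f := by
    rw [gprime, ap_mul, gg_e]
    exact gg_b p p'.swap
  have h2 : ap (gprime p p') p.f = -p.e := by
    rw [gprime, ap_mul, gg_f]
    exact gg_a p p'.swap
  rw [p.mem_W] at hw ⊢
  have e1 : ap (gprime p p') (ap (gprime p p')⁻¹ w) = w := by rw [← ap_mul, mul_inv_cancel]; rfl
  constructor
  · rw [← O.polar_app (gprime p p' : O Q)]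
    show polar Q (ap (gprime p p') p.e) (ap (gprime p p') _) = 0
    rw [h1, e1, polar_neg_left, hw.2, neg_zero]
  · rw [← O.polar_app (gprime p p' : O Q)]
    show polar Q (ap (gprime p p') p.f) (ap (gprime p p') _) = 0
    rw [h2, e1, polar_neg_left, hw.1, neg_zero]

omit hQ in
theorem gg_commute_line (p' : HP (restr Q p.W)) (s : F) :
    Commute (p.gg p') (xr p (s • p'.e)) := by
  have e : xr p (s • p'.e) = sg (p'.e : V) (-(s • p.e)) (HP.qa p')
      (by rw [polar_neg_right, polar_smul_right', p.w_e, mul_zero, neg_zero]) :=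
    Subtype.ext (O.ext_app fun y => by
      simp only [xr, sg_val, sie_app, polar_smul_left', polar_neg_left, Submodule.coe_smul,
        QuadraticMap.map_neg, qmap_smul, HP.qa p', p.he, mul_zero, zero_mul]
      module)
  show p.gg p' * xr p (s • p'.e) = xr p (s • p'.e) * p.gg p'
  conv_lhs => rw [xr]
  rw [e]
  exact (inv_conj_sg _ _ _ (u' := p.e) (w' := s • (p'.e : V)) (gg_e p p')
    (by rw [map_smul, gg_a, smul_neg])).symm

/-- No non-zero fixed vector stays in the moving part. -/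
theorem phi (B : InvForm ρ) (H : ∀ u : p.W, u ≠ 0 → Q (u : V) ≠ 0 → ∀ z, wP ρ p u z = 0) (p' : HP (restr Q p.W)) (hW3 : 3 ≤ finrank F p.W)
    (hcnt : 2 * (conePerp p p'.e).card < (sph p 0).card) {x : M} (hx : HFix hQ ρ p x)
    (h0 : wP ρ p 0 x = 0) (h0' : wP ρ p 0 (ρ (gprime p p') x) = 0) : x = 0 := by
  set x' := ρ (gprime p p') x with hx'
  set y := ρ (p.gg p') x with hy
  have hxy : x' = ρ (p.gg p'.swap) y := by
    rw [hx', hy, gprime, map_mul, Module.End.mul_apply]
  have hx'fix : HFix hQ ρ p x' := hx.conj hQ _ (gprime_inv_mem p')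
  have hsupp : ∀ z, wP ρ p 0 z = 0 → ∀ u, wP ρ p u z ≠ 0 → u ∈ sph p 0 := fun z hz u hu => by
    rw [mem_sph]
    have hu0 : u ≠ 0 := fun e => hu (e ▸ hz)
    exact ⟨hu0, by_contra fun h => hu (H u hu0 h z)⟩
  have ha : p'.e ∈ sph p 0 := mem_sph.2 ⟨p'.e_ne, HP.qa p'⟩
  have hb : p'.f ∈ sph p 0 := mem_sph.2 ⟨p'.f_ne, HP.qa p'.swap⟩
  have hyfix : ∀ t : p'.W, ρ (xr p (t : p.W)) y = y := fun t => by
    rw [hy, ← Module.End.mul_apply, ← map_mul]
    conv_lhs => rw [xr]
    rw [inv_conj_sg _ _ (p.gg p') (u' := -(p'.e : V)) (w' := ((t : p.W) : V))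
      (by rw [map_neg, gg_a, neg_neg]) (gg_fix p p' t), map_mul, Module.End.mul_apply]
    congr 1
    exact hx.sg_apply hQ (-p'.e) (t : p.W) (by rw [Submodule.coe_neg, QuadraticMap.map_neg]; exact HP.qa p')
      (by rw [Submodule.coe_neg, polar_neg_left, polar_W' p p' t, neg_zero])
  have hle : B.nsq y ≤ (lineAvg p B p'.e y).re + (lineAvg p B p'.f y).re := by
    rw [nsq_eq_sum p B hQ, lineAvg_eq p B hQ, lineAvg_eq p B hQ, Finset.sum_filter,
      Finset.sum_filter, ← Finset.sum_add_distrib]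
    refine Finset.sum_le_sum fun u _ => ?_
    have hnn := B.nsq_nonneg (wP ρ p u y)
    by_cases hu : wP ρ p u y = 0
    · rw [hu, InvForm.nsq_zero]; split_ifs <;> simp
    by_cases hu0 : u = 0
    · subst hu0; simp [hnn]
    have hQu : Q (u : V) = 0 := by_contra fun h => hu (H u hu0 h y)
    have ht : ∀ t : p'.W, polar Q (u : V) ((t : p.W) : V) = 0 := fun t =>
      polar_eq_zero_of_fixed ρ p (fun s => hyfix (s • t)) hu
    have hor : polar Q (u : V) (p'.e : V) = 0 ∨ polar Q (u : V) (p'.f : V) = 0 := by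
      have hr := p'.split u
      have hkey : (⟨_, hr⟩ : p'.W) = 0 := by
        refine (p'.nd (p.nd hQ)).eq_of_polar fun t => ?_
        simp only [polar_restr, Submodule.coe_sub, Submodule.coe_smul, Submodule.coe_zero, polar_zero_left,
          polar_sub_left, polar_smul_left', ht t, polar_W' p p' t, mul_zero, sub_zero]
        rw [show polar Q (p'.f : V) ((t : p.W) : V) = 0 from by rw [← polar_restr]; exact p'.f_w t,
          mul_zero, sub_zero]
      have he := congrArg (fun v : p'.W => ((v : p.W) : V)) hkey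
      simp only [Submodule.coe_sub, Submodule.coe_smul, Submodule.coe_zero, polar_restr] at he
      rw [sub_sub, sub_eq_zero] at he
      have hq := hQu
      rw [he, map_add_polar, qmap_smul, qmap_smul, polar_smul_left', polar_smul_right',
        show Q (p'.e : V) = 0 from HP.qa p', show Q (p'.f : V) = 0 from HP.qa p'.swap,
        show polar Q (p'.e : V) (p'.f : V) = 1 from (by rw [← polar_restr]; exact p'.hef)] at hq
      simp only [mul_zero, zero_add, mul_one, mul_eq_zero] at hq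
      rcases hq with h | h
      · exact Or.inr (by rw [polar_comm]; exact h)
      · exact Or.inl (by rw [polar_comm]; exact h)
    rcases hor with h | h
    · rw [if_pos h]; split_ifs <;> linarith
    · rw [if_pos h]; split_ifs <;> linarith
  have ey : lineAvg p B p'.e y = lineAvg p B p'.e x :=
    lineAvg_map p B (fun s => gg_commute_line p' s) x
  have ey' : lineAvg p B p'.f y = lineAvg p B p'.f x' := by
    rw [hxy]
    exact (lineAvg_map p B (fun s => gg_commute_line p'.swap s) y).symm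
  have e1 := line_ratio hQ B hW3 hx (hsupp x h0) ha
  have e2 := line_ratio hQ B hW3 hx'fix (hsupp x' h0') hb
  have hMb : (conePerp p p'.f).card = (conePerp p p'.e).card := by
    refine const_on_cone hQ hW3 (fun b => (conePerp p b).card) (fun k b => ?_) (fun s b hs => ?_) hb ha
    · simp only [conePerp_map, Finset.card_map]
    · simp only [conePerp, Submodule.coe_smul, polar_smul_right', mul_eq_zero, or_iff_right hs]
  rw [hMb, hx', InvForm.nsq_map] at e2
  rw [ey, ey', hy, InvForm.nsq_map] at hle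
  refine B.eq_zero_of_nsq_nonpos ?_
  have hN : ((2 * (conePerp p p'.e).card + 1 : ℕ) : ℝ) ≤ ((sph p 0).card : ℝ) := Nat.cast_le.2 hcnt
  push_cast at hN
  by_contra hc
  push Not at hc
  have h3 := mul_le_mul_of_nonneg_left hle (Nat.cast_nonneg (α := ℝ) (sph p 0).card)
  rw [mul_add, e1, e2] at h3
  nlinarith


omit hQ in
theorem finite_sieGroup : Finite (sieGroup (restr Q p.W)) :=
  Finite.of_injective (fun h => (apW h : p.W → p.W)) fun a b e =>
    Subtype.ext (Subtype.ext (LinearEquiv.ext (congrFun e)))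

noncomputable instance fintypeSie (p : HP Q) : Fintype (sieGroup (restr Q p.W)) :=
  @Fintype.ofFinite _ finite_sieGroup

/-- An orbit sum of a weight vector. -/
noncomputable def orbSum (ρ : Representation ℂ (sieGroup Q) M) (p : HP Q) (y : M) : M :=
  ∑ h : sieGroup (restr Q p.W), ρ (emb hQ p h) y

theorem orbSum_hfix (y : M) : HFix hQ ρ p (orbSum hQ ρ p y) := fun k => by
  rw [orbSum, map_sum]
  exact Fintype.sum_bijective (k * ·) (Group.mulLeft_bijective k) _ _ fun h => by
    rw [← Module.End.mul_apply, ← map_mul, ← map_mul]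

theorem wP_orbSum (u v : p.W) (z : M) :
    wP ρ p v (orbSum hQ ρ p (wP ρ p u z)) =
      ∑ h ∈ Finset.univ.filter (fun h : sieGroup (restr Q p.W) => apW h u = v),
        ρ (emb hQ p h) (wP ρ p u z) := by
  rw [orbSum, map_sum, Finset.sum_filter]
  refine Finset.sum_congr rfl fun h _ => ?_
  have e : ρ (emb hQ p h) (wP ρ p u z) = wP ρ p (apW h u) (ρ (emb hQ p h) z) :=
    LinearMap.congr_fun (emb_conj_wP ρ p hQ h u) z
  rw [e]
  split_ifs with hv
  · rw [hv, wP_idem_apply]
  · exact wP_apply_ne ρ p hQ (Ne.symm hv) _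

theorem wP_orbSum_self_ne (H : HypS ρ hQ p) {u : p.W} (hu : u ≠ 0) (hQu : Q (u : V) = 0) {z : M}
    (hz : wP ρ p u z ≠ 0) : wP ρ p u (orbSum hQ ρ p (wP ρ p u z)) ≠ 0 := by
  rw [wP_orbSum hQ, Finset.sum_congr rfl fun h hh => H.stab u hu hQu h (Finset.mem_filter.1 hh).2 z,
    Finset.sum_const, ← Nat.cast_smul_eq_nsmul ℂ]
  refine smul_ne_zero (Nat.cast_ne_zero.2 (Finset.card_ne_zero.2 ⟨1, ?_⟩)) hz
  exact Finset.mem_filter.2 ⟨Finset.mem_univ _, rfl⟩

theorem wP_orbSum_eq_zero {u v : p.W} (z : M) (h : ∀ k : sieGroup (restr Q p.W), apW k u ≠ v) :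
    wP ρ p v (orbSum hQ ρ p (wP ρ p u z)) = 0 := by
  rw [wP_orbSum hQ, Finset.filter_eq_empty_iff.2 fun k _ => h k, Finset.sum_empty]

theorem wP_zero_orbSum {u : p.W} (hu : u ≠ 0) (z : M) :
    wP ρ p 0 (orbSum hQ ρ p (wP ρ p u z)) = 0 :=
  wP_orbSum_eq_zero hQ z fun k e => hu ((LinearEquiv.map_eq_zero_iff _).1 e)

/-- Independent fixed vectors outside give as many new fixed vectors inside. -/
theorem inv_bound [FiniteDimensional ℂ M] (B : InvForm ρ) (H : ∀ u : p.W, u ≠ 0 → Q (u : V) ≠ 0 → ∀ z, wP ρ p u z = 0)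
    (p' : HP (restr Q p.W)) (hW3 : 3 ≤ finrank F p.W)
    (hcnt : 2 * (conePerp p p'.e).card < (sph p 0).card) {n : ℕ} (x : Fin n → M)
    (hx : ∀ i, HFix hQ ρ p (x i)) (h0 : ∀ i, wP ρ p 0 (x i) = 0)
    (hli : LinearIndependent ℂ x) :
    n + finrank ℂ ρ.invariants ≤ finrank ℂ (cRep ρ hQ p).invariants := by
  set g := gprime p p'
  let X : (Fin n → ℂ) →ₗ[ℂ] M := Fintype.linearCombination ℂ x
  have hX0 : ∀ c, wP ρ p 0 (X c) = 0 := fun c => by
    simp [X, Fintype.linearCombination_apply, map_sum, h0]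
  have hXfix : ∀ c, HFix hQ ρ p (X c) := fun c h => by
    simp only [X, Fintype.linearCombination_apply, map_sum, map_smul, hx _ h]
  let L : (Fin n → ℂ) × ρ.invariants →ₗ[ℂ] M :=
    ((wP ρ p 0).comp ((ρ g).comp X)).coprod ρ.invariants.subtype
  have hinvC : ∀ v : ρ.invariants, wP ρ p 0 (v : M) = v := fun v =>
    (wP_zero_eq_self_iff ρ p).2 fun w => v.2 _
  have hmem : ∀ z, ∃ h : L z ∈ Cs ρ p, (⟨_, h⟩ : Cs ρ p) ∈ (cRep ρ hQ p).invariants := by
    intro z
    have hL : L z = wP ρ p 0 (ρ g (X z.1)) + (z.2 : M) := rfl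
    refine ⟨(mem_Cs ρ).2 (by rw [hL, map_add, wP_idem_apply, hinvC]), fun k => Subtype.ext ?_⟩
    rw [cRep_apply]
    show ρ (emb hQ p k) (L z) = L z
    rw [hL, map_add, z.2.2 (emb hQ p k)]
    have e := LinearMap.congr_fun (emb_conj_wP ρ p hQ k 0) (ρ g (X z.1))
    rw [map_zero, Module.End.mul_apply, Module.End.mul_apply,
      (hXfix z.1).conj hQ g (gprime_inv_mem p') k] at e
    rw [e]
  have hinj : ∀ z, L z = 0 → z = 0 := by
    intro z hz
    have hL : L z = wP ρ p 0 (ρ g (X z.1)) + (z.2 : M) := rfl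
    rw [hL] at hz
    have hv : (z.2 : M) = 0 := by
      refine B.eq_zero_of_ip_self ?_
      have e : wP ρ p 0 (ρ g (X z.1)) = -(z.2 : M) := eq_neg_of_add_eq_zero_left hz
      have hneg : B.ip (z.2 : M) (wP ρ p 0 (ρ g (X z.1))) = 0 := by
        rw [← ip_wP p B, hinvC, ← z.2.2 g, B.inv, ← hinvC, ip_wP p B, hX0, map_zero]
      rwa [e, map_neg, neg_eq_zero] at hneg
    rw [hv, add_zero] at hz
    have hX : X z.1 = 0 := phi hQ B H p' hW3 hcnt (hXfix _) (hX0 _) hz
    refine Prod.ext (funext fun i => ?_) (Subtype.ext hv)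
    exact Fintype.linearIndependent_iff.1 hli z.1
      (by rw [← Fintype.linearCombination_apply]; exact hX) i
  let L' : (Fin n → ℂ) × ρ.invariants →ₗ[ℂ] (cRep ρ hQ p).invariants :=
    { toFun := fun z => ⟨⟨L z, (hmem z).1⟩, (hmem z).2⟩
      map_add' := fun a b => Subtype.ext (Subtype.ext (map_add L a b))
      map_smul' := fun c a => Subtype.ext (Subtype.ext (map_smul L c a)) }
  have := LinearMap.finrank_le_finrank_of_injective (f := L')
    (LinearMap.ker_eq_bot.1 (LinearMap.ker_eq_bot'.2 fun z hz =>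
      hinj z (congrArg (fun v : (cRep ρ hQ p).invariants => ((v : Cs ρ p) : M)) hz)))
  rwa [Module.finrank_prod, Module.finrank_fin_fun] at this

end Cfsg.Agent.H53.OmLow
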