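import Cfsg.Agent.H53.OmLow.Geom
import Cfsg.Agent.H53.OmLow.Form
import Cfsg.Agent.Symplectic.AddChar

/-!
The abelian radical of an isotropic point and its weight projections.
-/

set_option autoImplicit false
set_option linter.unusedSectionVars false

namespace Cfsg.Agent.H53.OmLow

open QuadraticMap Module Finset
open Cfsg.Agent.Orthogonal
open Cfsg.Agent.Symplectic (eChar eChar_exists_ne)
open scoped ComplexConjugate

variable {F V : Type*} [Field F] [Finite F] [AddCommGroup V] [Module F V] [FiniteDimensional F V]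
variable {Q : QuadraticForm F V}

noncomputable instance HP.fintypeW (p : HP Q) : Fintype p.W :=
  @Fintype.ofFinite _ (Module.finite_of_finite F)

attribute [local instance] Fintype.ofFinite Classical.propDecidable

theorem eq_of_eChar {a b : F} (h : ∀ t, eChar F (t * a) = eChar F (t * b)) : a = b := by
  by_contra hne
  obtain ⟨t, ht⟩ := eChar_exists_ne (sub_ne_zero.2 hne)
  apply ht
  rw [show (a - b) * t = t * a + t * (-b) by ring, AddChar.map_add_eq_mul, h t,
    ← AddChar.map_add_eq_mul, show t * b + t * (-b) = 0 by ring, AddChar.map_zero_eq_one]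

/-- The radical element. -/
noncomputable def xr (p : HP Q) (w : p.W) : sieGroup Q := sg p.e (w : V) p.he (p.e_w w)

theorem xr_add (p : HP Q) (v w : p.W) : xr p (v + w) = xr p v * xr p w := (sg_mul _ _ _).symm

theorem xr_zero (p : HP Q) : xr p 0 = 1 := by
  refine Subtype.ext (O.ext_app fun x => ?_)
  show x + _ - _ = x
  simp

/-- The character of the radical attached to a weight. -/
noncomputable def chi (p : HP Q) (u : p.W) : AddChar p.W ℂ :=
  (eChar F).compAddMonoidHom ((restr Q p.W).polarBilin u).toAddMonoidHom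

theorem chi_apply (p : HP Q) (u w : p.W) : chi p u w = eChar F (polar Q (u : V) (w : V)) := by
  simp only [chi, AddChar.compAddMonoidHom_apply]
  show eChar F (polar (restr Q p.W) u w) = _
  rw [polar_restr]

theorem chi_comm (p : HP Q) (u w : p.W) : chi p u w = chi p w u := by
  rw [chi_apply, chi_apply, polar_comm]

theorem chi_ne_zero (hQ : Nondeg Q) (p : HP Q) {u : p.W} (hu : u ≠ 0) : chi p u ≠ 0 := by
  obtain ⟨y, hy⟩ := (p.nd hQ).exists_polar_eq hu 1
  obtain ⟨t, ht⟩ := eChar_exists_ne (one_ne_zero (α := F))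
  intro h
  apply ht
  have h1 : chi p u (t • y) = 1 := by rw [h, AddChar.zero_apply]
  rwa [chi_apply, Submodule.coe_smul, polar_smul_right', ← polar_restr, hy, mul_comm] at h1

theorem chi_zero (p : HP Q) : chi p 0 = 0 := DFunLike.ext _ _ fun w => by
  rw [chi_apply, Submodule.coe_zero, polar_zero_left, AddChar.map_zero_eq_one, AddChar.zero_apply]

theorem sum_chi (hQ : Nondeg Q) (p : HP Q) (w : p.W) :
    ∑ u, chi p u w = if w = 0 then (Fintype.card p.W : ℂ) else 0 := by
  classical
  simp only [chi_comm p _ w, AddChar.sum_eq_ite]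
  rcases eq_or_ne w 0 with rfl | hw
  · rw [if_pos (chi_zero p), if_pos rfl]
  · rw [if_neg (chi_ne_zero hQ p hw), if_neg hw]

section Proj

variable {M : Type*} [AddCommGroup M] [Module ℂ M] (ρ : Representation ℂ (sieGroup Q) M)
variable (p : HP Q)

/-- The projection on a weight space. -/
noncomputable def wP (u : p.W) : Module.End ℂ M :=
  (Fintype.card p.W : ℂ)⁻¹ • ∑ w, chi p u (-w) • ρ (xr p w)

theorem card_W_ne_zero : (Fintype.card p.W : ℂ) ≠ 0 := Nat.cast_ne_zero.2 Fintype.card_ne_zero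

theorem xr_mul_wP (u w : p.W) : ρ (xr p w) * wP ρ p u = chi p u w • wP ρ p u := by
  rw [wP, mul_smul_comm, Finset.mul_sum, smul_comm (chi p u w), Finset.smul_sum (r := chi p u w)]
  congr 1
  refine Fintype.sum_equiv (Equiv.addLeft w) _ _ fun d => ?_
  rw [Equiv.coe_addLeft, mul_smul_comm, smul_smul, ← map_mul, ← xr_add, ← AddChar.map_add_eq_mul]
  congr 2
  simp

theorem xr_mul_wP_apply (u w : p.W) (z : M) :
    ρ (xr p w) (wP ρ p u z) = chi p u w • wP ρ p u z :=
  LinearMap.congr_fun (xr_mul_wP ρ p u w) z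

theorem wP_mul_xr (u w : p.W) : wP ρ p u * ρ (xr p w) = chi p u w • wP ρ p u := by
  rw [← xr_mul_wP]
  simp only [wP, mul_smul_comm, smul_mul_assoc, Finset.mul_sum, Finset.sum_mul, ← map_mul, ← xr_add,
    add_comm w]

theorem wP_idem (u : p.W) : wP ρ p u * wP ρ p u = wP ρ p u := by
  nth_rw 1 [wP]
  rw [smul_mul_assoc, Finset.sum_mul]
  simp only [smul_mul_assoc, xr_mul_wP, smul_smul, ← AddChar.map_add_eq_mul, neg_add_cancel,
    AddChar.map_zero_eq_one, one_smul]
  rw [Finset.sum_const, Finset.card_univ, ← Nat.cast_smul_eq_nsmul ℂ, smul_smul,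
    inv_mul_cancel₀ (card_W_ne_zero p), one_smul]

theorem wP_idem_apply (u : p.W) (z : M) : wP ρ p u (wP ρ p u z) = wP ρ p u z :=
  LinearMap.congr_fun (wP_idem ρ p u) z

theorem sum_wP (hQ : Nondeg Q) : ∑ u, wP ρ p u = 1 := by
  classical
  simp only [wP, ← Finset.smul_sum]
  rw [Finset.sum_comm]
  simp only [← Finset.sum_smul, sum_chi hQ p]
  rw [Finset.sum_eq_single (0 : p.W) (fun b _ hb => by rw [if_neg (by simpa using hb), zero_smul])
    (by simp), if_pos (by simp), xr_zero, map_one, smul_smul, inv_mul_cancel₀ (card_W_ne_zero p),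
    one_smul]

theorem sum_wP_apply (hQ : Nondeg Q) (z : M) : ∑ u, wP ρ p u z = z := by
  rw [← LinearMap.sum_apply, sum_wP ρ p hQ, Module.End.one_apply]

theorem eq_of_eigen (u w : p.W) {z : M} {c : ℂ} (hz : ρ (xr p w) z = c • z)
    (h : wP ρ p u z ≠ 0) : chi p u w = c := by
  have h1 : wP ρ p u (ρ (xr p w) z) = chi p u w • wP ρ p u z :=
    LinearMap.congr_fun (wP_mul_xr ρ p u w) z
  rw [hz, map_smul] at h1
  exact (smul_left_injective ℂ h h1).symm

theorem polar_eq_of_eigen {u v w : p.W} {z : M}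
    (hz : ∀ t : F, ρ (xr p (t • w)) z = chi p v (t • w) • z) (h : wP ρ p u z ≠ 0) :
    polar Q (u : V) (w : V) = polar Q (v : V) (w : V) := eq_of_eChar fun t => by
  have := eq_of_eigen ρ p u (t • w) (hz t) h
  rwa [chi_apply, chi_apply, Submodule.coe_smul, polar_smul_right', polar_smul_right'] at this

theorem polar_eq_zero_of_fixed {u w : p.W} {z : M} (hz : ∀ t : F, ρ (xr p (t • w)) z = z)
    (h : wP ρ p u z ≠ 0) : polar Q (u : V) (w : V) = 0 := by
  rw [polar_eq_of_eigen ρ p (v := 0) (fun t => by rw [hz, chi_zero, AddChar.zero_apply, one_smul]) h,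
    Submodule.coe_zero, polar_zero_left]

theorem wP_zero_eq_self_iff {z : M} : wP ρ p 0 z = z ↔ ∀ w, ρ (xr p w) z = z := by
  constructor
  · intro h w
    rw [← h, xr_mul_wP_apply, chi_zero, AddChar.zero_apply, one_smul]
  · intro h
    simp only [wP, LinearMap.smul_apply, LinearMap.sum_apply, h, chi_zero, AddChar.zero_apply,
      one_smul]
    rw [Finset.sum_const, Finset.card_univ, ← Nat.cast_smul_eq_nsmul ℂ, smul_smul,
      inv_mul_cancel₀ (card_W_ne_zero p), one_smul]

theorem wP_apply_ne {u v : p.W} (hQ : Nondeg Q) (huv : u ≠ v) (z : M) :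
    wP ρ p u (wP ρ p v z) = 0 := by
  by_contra h
  refine huv (Subtype.ext (sub_eq_zero.1 ?_))
  have hall : ∀ w : p.W, polar Q (u : V) (w : V) = polar Q (v : V) (w : V) := fun w =>
    polar_eq_of_eigen ρ p (fun t => xr_mul_wP_apply ρ p v (t • w) z) h
  have := p.nd hQ (u - v) fun y => by
    rw [polar_restr, Submodule.coe_sub, polar_sub_left, hall y, sub_self]
  exact congrArg Subtype.val this

/-- Conjugation of weights by an element fixing the point. -/
theorem conj_wP {g : sieGroup Q} {lam : F} (hlam : lam ≠ 0)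
    (hge : ((g : O Q) : V ≃ₗ[F] V) p.e = lam • p.e)
    (hgW : ∀ x ∈ p.W, ((g : O Q) : V ≃ₗ[F] V) x ∈ p.W) {u u' : p.W}
    (hu : (u' : V) = lam⁻¹ • ((g : O Q) : V ≃ₗ[F] V) u) :
    ρ g * wP ρ p u = wP ρ p u' * ρ g := by
  let T : p.W → p.W := fun w => ⟨lam • ((g : O Q) : V ≃ₗ[F] V) w, p.W.smul_mem _ (hgW _ w.2)⟩
  have hT : Function.Bijective T := Finite.injective_iff_bijective.1 fun a b e => by
    have e' := congrArg Subtype.val e
    exact Subtype.ext (((g : O Q) : V ≃ₗ[F] V).injective (smul_right_injective V hlam e'))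
  rw [wP, wP, mul_smul_comm, smul_mul_assoc, Finset.mul_sum, Finset.sum_mul]
  congr 1
  refine Fintype.sum_bijective T hT _ _ fun w => ?_
  rw [mul_smul_comm, smul_mul_assoc, ← map_mul, ← map_mul]
  have hc : chi p u (-w) = chi p u' (-(T w)) := by
    rw [chi_apply, chi_apply, Submodule.coe_neg, Submodule.coe_neg, polar_neg_right, polar_neg_right,
      hu]
    show _ = eChar F (-polar Q (lam⁻¹ • _) (lam • _))
    rw [polar_smul_left', polar_smul_right', O.polar_app, ← mul_assoc, inv_mul_cancel₀ hlam, one_mul]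
  have hx : xr p (T w) = g * xr p w * g⁻¹ := by
    rw [xr, xr, sg_conj]
    refine Subtype.ext ?_
    simp only [sg_val]
    rw [sie_congr _ _ (p.qe lam) (by rw [polar_smul_left', p.e_w ⟨_, hgW _ w.2⟩, mul_zero]) hge rfl,
      sie_smul p.he (p.e_w ⟨_, hgW _ w.2⟩)]
  rw [hc, hx, inv_mul_cancel_right]

theorem emb_conj_wP (hQ : Nondeg Q) (h : sieGroup (restr Q p.W)) (u : p.W) :
    ρ (emb hQ p h) * wP ρ p u =
      wP ρ p (((h : O (restr Q p.W)) : p.W ≃ₗ[F] p.W) u) * ρ (emb hQ p h) :=
  conj_wP ρ p one_ne_zero (by rw [emb_e, one_smul])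
    (fun x hx => by rw [emb_app hQ p h ⟨x, hx⟩]; exact Subtype.prop _)
    (by rw [inv_one, one_smul, emb_app])

section Form

variable {ρ} (B : InvForm ρ)

theorem ip_wP (u : p.W) (y z : M) : B.ip (wP ρ p u y) z = B.ip y (wP ρ p u z) := by
  simp only [wP, LinearMap.smul_apply, LinearMap.sum_apply, map_smulₛₗ, map_sum, map_smul,
    RingHom.id_apply, LinearMap.smul_apply, LinearMap.sum_apply, map_inv₀, map_natCast, B.adjoint,
    smul_eq_mul]
  congr 1
  refine Fintype.sum_equiv (Equiv.neg p.W) _ _ fun w => ?_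
  rw [Equiv.neg_apply, AddChar.map_neg_eq_conj, Complex.conj_conj, neg_neg]
  congr 1
  rw [inv_eq_of_mul_eq_one_right (a := xr p w) (b := xr p (-w))
    (by rw [← xr_add, add_neg_cancel, xr_zero])]

theorem nsq_eq_sum (hQ : Nondeg Q) (z : M) : B.nsq z = ∑ u, B.nsq (wP ρ p u z) := by
  have e : ∀ u, B.ip (wP ρ p u z) (wP ρ p u z) = B.ip z (wP ρ p u z) := fun u => by
    rw [ip_wP, wP_idem_apply]
  simp only [InvForm.nsq, e, ← Complex.re_sum, ← map_sum, sum_wP_apply ρ p hQ]

/-- The mean value of a matrix coefficient along a line of the radical. -/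
noncomputable def lineAvg (a : p.W) (z : M) : ℂ :=
  (Fintype.card F : ℂ)⁻¹ * ∑ t : F, B.ip z (ρ (xr p (t • a)) z)

theorem lineAvg_eq (hQ : Nondeg Q) (a : p.W) (z : M) :
    (lineAvg p B a z).re =
      ∑ u ∈ Finset.univ.filter (fun u : p.W => polar Q (u : V) (a : V) = 0), B.nsq (wP ρ p u z) := by
  classical
  have e : ∀ t : F, B.ip z (ρ (xr p (t • a)) z) =
      ∑ u : p.W, eChar F (t * polar Q (u : V) (a : V)) * B.ip (wP ρ p u z) (wP ρ p u z) := fun t => by
    conv_lhs => enter [2]; rw [← sum_wP_apply ρ p hQ z]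
    rw [map_sum, map_sum]
    refine Finset.sum_congr rfl fun u _ => ?_
    rw [xr_mul_wP_apply, map_smul, smul_eq_mul, chi_apply, Submodule.coe_smul, polar_smul_right',
      ip_wP, wP_idem_apply]
  rw [lineAvg, Finset.sum_congr rfl fun t _ => e t, Finset.sum_comm, Finset.sum_filter, Finset.mul_sum,
    Complex.re_sum]
  refine Finset.sum_congr rfl fun u _ => ?_
  rw [← Finset.sum_mul, ← mul_assoc]
  split_ifs with h
  · simp [h, InvForm.nsq]
  · obtain ⟨s, hs⟩ := eChar_exists_ne h
    have : ∑ t : F, eChar F (t * polar Q (u : V) (a : V)) = 0 := by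
      simp only [mul_comm _ (polar Q (u : V) (a : V))]
      exact Symplectic.sum_comp_eq_zero (AddMonoidHom.mulLeft _) ⟨s, hs⟩
    rw [this, mul_zero, zero_mul, Complex.zero_re]

theorem lineAvg_map {g : sieGroup Q} {a : p.W} (hg : ∀ t : F, Commute g (xr p (t • a))) (z : M) :
    lineAvg p B a (ρ g z) = lineAvg p B a z := by
  simp only [lineAvg]
  congr 1
  refine Finset.sum_congr rfl fun t _ => ?_
  rw [← Module.End.mul_apply, ← map_mul, ← (hg t).eq, map_mul, Module.End.mul_apply, B.inv]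

end Form

end Proj

end Cfsg.Agent.H53.OmLow
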