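import Cfsg.Agent.H53.OmLow.Count

/-!
Scaling elements and the invariance of the weight multiplicities.
-/

set_option autoImplicit false
set_option linter.unusedSectionVars false

namespace Cfsg.Agent.H53.OmLow

open QuadraticMap Module Finset
open Cfsg.Agent.Orthogonal

attribute [local instance] Fintype.ofFinite Classical.propDecidable

variable {F V : Type*} [Field F] [Finite F] [AddCommGroup V] [Module F V] [FiniteDimensional F V]
variable {Q : QuadraticForm F V}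

/-- A rescaled pair. -/
def HP.scale (p : HP Q) (l : F) (hl : l ≠ 0) : HP Q :=
  ⟨l • p.e, l⁻¹ • p.f, p.qe l, by rw [qmap_smul, p.hf, mul_zero],
    by rw [polar_smul_left', polar_smul_right', p.hef, mul_one, mul_inv_cancel₀ hl]⟩

/-- The image of a pair. -/
def HP.map (p : HP Q) (g : O Q) : HP Q :=
  ⟨(g : V ≃ₗ[F] V) p.e, (g : V ≃ₗ[F] V) p.f, by rw [O.map_app]; exact p.he,
    by rw [O.map_app]; exact p.hf, by rw [O.polar_app]; exact p.hef⟩

/-- The element scaling two orthogonal pairs inversely. -/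
noncomputable def scal (p : HP Q) (p' : HP (restr Q p.W)) (l : F) (hl : l ≠ 0) : sieGroup Q :=
  (p.gg p')⁻¹ * p.gg (p'.scale l hl)

section scal

variable (p : HP Q) (p' : HP (restr Q p.W)) {l : F} (hl : l ≠ 0)

theorem scal_e : ap (scal p p' l hl) p.e = l • p.e := by
  rw [scal, ap_mul, gg_e]
  show ap (p.gg p')⁻¹ (((l • p'.e : p.W) : V)) = _
  rw [Submodule.coe_smul, map_smul, show ap (p.gg p')⁻¹ (p'.e : V) = p.e from inv_app (gg_e p p')]

theorem scal_f : ap (scal p p' l hl) p.f = l⁻¹ • p.f := by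
  rw [scal, ap_mul, gg_f]
  show ap (p.gg p')⁻¹ (((l⁻¹ • p'.f : p.W) : V)) = _
  rw [Submodule.coe_smul, map_smul, show ap (p.gg p')⁻¹ (p'.f : V) = p.f from inv_app (gg_f p p')]

theorem scal_a : ap (scal p p' l hl) (p'.e : V) = l⁻¹ • (p'.e : V) := by
  have h := gg_a p (p'.scale l hl)
  have e : ((p'.scale l hl).e : V) = l • (p'.e : V) := rfl
  rw [e, map_smul] at h
  rw [scal, ap_mul, (eq_inv_smul_iff₀ hl).2 h, map_smul]
  congr 1
  rw [← gg_a p p']
  exact inv_app rfl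

theorem scal_b : ap (scal p p' l hl) (p'.f : V) = l • (p'.f : V) := by
  have h := gg_b p (p'.scale l hl)
  have e : ((p'.scale l hl).f : V) = l⁻¹ • (p'.f : V) := rfl
  rw [e, map_smul, inv_smul_eq_iff₀ hl] at h
  rw [scal, ap_mul, h, map_smul]
  congr 1
  rw [← gg_b p p']
  exact inv_app rfl

theorem scal_fix {w : p.W} (hw : w ∈ p'.W) : ap (scal p p' l hl) (w : V) = (w : V) := by
  have hw' : w ∈ (p'.scale l hl).W := by
    rw [HP.mem_W] at hw ⊢
    simp [HP.scale, hw.1, hw.2]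
  rw [scal, ap_mul]
  rw [show ap (p.gg (p'.scale l hl)) (w : V) = (w : V) from gg_fix p _ ⟨w, hw'⟩]
  exact inv_app (gg_fix p p' ⟨w, hw⟩)

theorem scal_mem : ∀ x ∈ p.W, ap (scal p p' l hl) x ∈ p.W := by
  intro x hx
  rw [p.mem_W] at hx ⊢
  have h1 : polar Q (ap (scal p p' l hl) p.e) (ap (scal p p' l hl) x) = 0 :=
    (O.polar_app _ _ _).trans hx.1
  have h2 : polar Q (ap (scal p p' l hl) p.f) (ap (scal p p' l hl) x) = 0 :=
    (O.polar_app _ _ _).trans hx.2
  rw [scal_e, polar_smul_left', mul_eq_zero, or_iff_right hl] at h1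
  rw [scal_f, polar_smul_left', mul_eq_zero, or_iff_right (inv_ne_zero hl)] at h2
  exact ⟨h1, h2⟩

end scal

/-! ### Pairs orthogonal to a given vector -/

theorem exists_hp (hQ : Nondeg Q) (hn : 3 ≤ finrank F V) : Nonempty (HP Q) := by
  obtain ⟨u, hu0, hu⟩ := hQ.exists_singular hn
  obtain ⟨f, hf, huf⟩ := hQ.exists_partner hu0 hu
  exact ⟨⟨u, f, hu, hf, huf⟩⟩

theorem exists_orth_hp (hQ : Nondeg Q) (hn : 5 ≤ finrank F V) (u : V) : ∃ p : HP Q, u ∈ p.W := by
  obtain ⟨p₀⟩ := exists_hp hQ (by omega)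
  rcases eq_or_ne u 0 with rfl | hu
  · exact ⟨p₀, Submodule.zero_mem _⟩
  by_cases hQu : Q u = 0
  · obtain ⟨f, hf, huf⟩ := hQ.exists_partner hu hQu
    let p₁ : HP Q := ⟨u, f, hQu, hf, huf⟩
    have hd := p₁.finrank_W hQ
    obtain ⟨p₂⟩ := exists_hp (p₁.nd hQ) (by omega)
    refine ⟨p₁.lift p₂, ?_⟩
    rw [HP.mem_W]
    exact ⟨p₁.w_e p₂.e, p₁.w_e p₂.f⟩
  · have hd := p₀.finrank_W hQ
    obtain ⟨v, hv⟩ := (p₀.nd hQ).exists_value (by omega) (Q u)
    have hv0 : (v : V) ≠ 0 := fun h => hQu (by rw [← hv, restr_apply, h, QuadraticMap.map_zero])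
    obtain ⟨g, hg⟩ := exists_map_vec hQ hv0 hu hv.symm
    refine ⟨p₀.map g, ?_⟩
    rw [HP.mem_W, ← hg]
    simp only [HP.map, O.polar_app]
    exact p₀.mem_W.1 v.2

/-! ### Multiplicities of weights -/

section Mult

variable {M : Type*} [AddCommGroup M] [Module ℂ M] [FiniteDimensional ℂ M]
variable (ρ : Representation ℂ (sieGroup Q) M) (p : HP Q)

/-- The multiplicity of a weight. -/
noncomputable def mult (u : p.W) : ℕ := finrank ℂ (LinearMap.range (wP ρ p u))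

theorem mult_eq_zero_iff (u : p.W) : mult ρ p u = 0 ↔ ∀ z, wP ρ p u z = 0 := by
  rw [mult, Submodule.finrank_eq_zero, LinearMap.range_eq_bot]
  exact ⟨fun h z => by rw [h]; rfl, fun h => LinearMap.ext h⟩

theorem mult_conj {g : sieGroup Q} {u u' : p.W}
    (h : ρ g * wP ρ p u = wP ρ p u' * ρ g) : mult ρ p u' = mult ρ p u := by
  let T : M ≃ₗ[ℂ] M :=
    LinearEquiv.ofLinearMap (ρ g) (ρ g⁻¹) (LinearMap.ext (map_apply_inv_eq ρ g))
      (LinearMap.ext (map_inv_apply_eq ρ g))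
  have e : LinearMap.range (wP ρ p u') = (LinearMap.range (wP ρ p u)).map (T : M →ₗ[ℂ] M) := by
    ext z
    constructor
    · rintro ⟨y, rfl⟩
      refine ⟨_, LinearMap.mem_range_self _ (ρ g⁻¹ y), ?_⟩
      show ρ g (wP ρ p u (ρ g⁻¹ y)) = _
      rw [← Module.End.mul_apply, h, Module.End.mul_apply, map_apply_inv_eq]
    · rintro ⟨x, ⟨y, rfl⟩, rfl⟩
      refine ⟨ρ g y, ?_⟩
      show _ = ρ g (wP ρ p u y)
      rw [← Module.End.mul_apply, ← h, Module.End.mul_apply]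
  rw [mult, mult, e]
  exact T.finrank_map_eq _

theorem mult_map (hQ : Nondeg Q) (k : sieGroup (restr Q p.W)) (u : p.W) :
    mult ρ p (apW k u) = mult ρ p u :=
  mult_conj ρ p (emb_conj_wP ρ p hQ k u)

variable (hQ : Nondeg Q) (hW : 5 ≤ finrank F p.W)

include hQ hW

theorem mult_smul (u : p.W) {l : F} (hl : l ≠ 0) : mult ρ p (l • u) = mult ρ p u := by
  obtain ⟨p', hp'⟩ := exists_orth_hp (p.nd hQ) hW u
  refine mult_conj ρ p (g := scal p p' l⁻¹ (inv_ne_zero hl))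
    (conj_wP ρ p (inv_ne_zero hl) (scal_e p p' _) (scal_mem p p' _) ?_)
  rw [inv_inv, Submodule.coe_smul]
  exact congrArg (l • ·) (scal_fix p p' _ hp').symm

theorem mult_eq_of_norm {u v : p.W} (hu : u ≠ 0) (hv : v ≠ 0) (h : Q (u : V) = Q (v : V)) :
    mult ρ p u = mult ρ p v := by
  have hR := p.nd hQ
  by_cases h0 : Q (u : V) = 0
  · obtain ⟨g, hg, s, hs, hgs⟩ := exists_sie_point hR (by omega) hu hv h0 (h.symm.trans h0)
    rw [← mult_map ρ p hQ ⟨g, hg⟩ u, show apW ⟨g, hg⟩ u = s • v from hgs, mult_smul ρ p hQ hW v hs]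
  · obtain ⟨p'⟩ := exists_hp hR (by omega)
    obtain ⟨g, hg, hgu⟩ := exists_sie_sphere hR (by omega) p'.he p'.hf p'.hef (v := u) h0
    obtain ⟨g', hg', hgv⟩ := exists_sie_sphere hR (by omega) p'.he p'.hf p'.hef (v := v)
      (by rw [restr_apply, ← h]; exact h0)
    rw [← mult_map ρ p hQ ⟨g, hg⟩ u, ← mult_map ρ p hQ ⟨g', hg'⟩ v]
    congr 1
    show (g : p.W ≃ₗ[F] p.W) u = (g' : p.W ≃ₗ[F] p.W) v
    rw [hgu, hgv, restr_apply, restr_apply, h]

/-- Two orbits, or one with multiplicity, bound the dimension. -/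
theorem two_orbits {c c' : F} {u u' : p.W} (hu : u ≠ 0) (hu' : u' ≠ 0) (hQu : Q (u : V) = c)
    (hQu' : Q (u' : V) = c') (hm : 1 ≤ mult ρ p u) (hm' : 1 ≤ mult ρ p u')
    (h : c ≠ c' ∨ 2 ≤ mult ρ p u) :
    ∃ c₁ c₂, (sph p c₁).card + (sph p c₂).card ≤ finrank ℂ M := by
  rcases h with h | h
  · refine ⟨c, c', ?_⟩
    have hd : Disjoint (sph p c) (sph p c') := Finset.disjoint_left.2 fun x hx hx' =>
      h ((mem_sph.1 hx).2.symm.trans (mem_sph.1 hx').2)
    have := mul_card_add_le ρ hQ p (r := 1) (sph p c ∪ sph p c') (by simp [mem_sph]) fun x hx => by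
      rcases Finset.mem_union.1 hx with hx | hx
      · exact hm.trans (mult_eq_of_norm ρ p hQ hW hu (mem_sph.1 hx).1
          (hQu.trans (mem_sph.1 hx).2.symm)).le
      · exact hm'.trans (mult_eq_of_norm ρ p hQ hW hu' (mem_sph.1 hx).1
          (hQu'.trans (mem_sph.1 hx).2.symm)).le
    rw [Finset.card_union_of_disjoint hd] at this
    omega
  · refine ⟨c, c, ?_⟩
    have := mul_card_add_le ρ hQ p (r := 2) (sph p c) (by simp [mem_sph]) fun x hx =>
      h.trans (mult_eq_of_norm ρ p hQ hW hu (mem_sph.1 hx).1 (hQu.trans (mem_sph.1 hx).2.symm)).le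
    omega

end Mult

end Cfsg.Agent.H53.OmLow
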