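import Cfsg.Agent.H53.OmLow.Count
import Cfsg.Agent.Orthogonal.Spinor
import Cfsg.Agent.Orthogonal.Dickson

/-!
The commutator subgroup inside the Eichler group in dimensions three and four, and its
compatibility with passing to the orthogonal of a pair.
-/

set_option autoImplicit false
set_option linter.unusedSectionVars false

namespace Cfsg.Agent.H53.OmLow

open QuadraticMap Module
open Cfsg.Agent.Orthogonal
open scoped commutatorElement

attribute [local instance] Fintype.ofFinite Classical.propDecidable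

variable {F V : Type*} [Field F] [Finite F] [AddCommGroup V] [Module F V] [FiniteDimensional F V]
variable {Q : QuadraticForm F V}

/-- Transitivity on spheres in dimension three, odd characteristic. -/
theorem exists_sie_sphere_three (hQ : Nondeg Q) (h2 : (2 : F) ≠ 0) (h3 : finrank F V = 3)
    (p : HP Q) {v : V} (hv : Q v ≠ 0) :
    ∃ g ∈ sieGroup Q, (g : V ≃ₗ[F] V) v = p.e + Q v • p.f := by
  have hline : finrank F p.W = 1 := by
    have := p.finrank_W hQ; omega
  obtain ⟨w₀, hw₀, hspan⟩ := finrank_eq_one_iff'.1 hline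
  set κ := Q (w₀ : V) with hκ
  have hκ0 : κ ≠ 0 := by
    intro h0
    refine hw₀ (p.nd hQ w₀ fun y => ?_)
    obtain ⟨t, rfl⟩ := hspan y
    rw [polar_restr, Submodule.coe_smul, polar_smul_right', polar_self', ← hκ, h0]; ring
  have hfw : ∀ t : F, polar Q p.f (t • (w₀ : V)) = 0 := fun t => by
    rw [polar_smul_right', p.f_w, mul_zero]
  have hew : ∀ t : F, polar Q p.e (t • (w₀ : V)) = 0 := fun t => by
    rw [polar_smul_right', p.e_w, mul_zero]
  set A := polar Q p.f v with hA
  set B := polar Q p.e v with hB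
  set ω := polar Q (w₀ : V) v with hω
  have hc : 4 * κ * Q v = 4 * κ * A * B + ω ^ 2 := by
    obtain ⟨m, hm⟩ := hspan ⟨_, p.split v⟩
    have hm' : v = m • (w₀ : V) + A • p.e + B • p.f := by
      have := congrArg Subtype.val hm
      simp only [Submodule.coe_smul] at this
      rw [this, ← hA, ← hB]; abel
    have hω' : ω = 2 * m * κ := by
      rw [hω]
      conv_lhs => rw [hm']
      simp only [polar_add_right, polar_smul_right', polar_self', p.w_e, p.w_f, ← hκ]
      ring
    have hQv : Q v = m ^ 2 * κ + A * B := by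
      conv_lhs => rw [hm']
      simp only [map_add_polar, qmap_smul, p.he, p.hf, polar_add_left, polar_smul_left',
        polar_smul_right', p.w_e, p.w_f, p.hef, ← hκ]
      ring
    rw [hω', hQv]; ring
  have h4 : (4 : F) ≠ 0 := by
    rw [show (4 : F) = 2 * 2 by norm_num]; exact mul_ne_zero h2 h2
  obtain ⟨x, t, hxt⟩ : ∃ x t : F,
      A + t * (ω - 2 * κ * x * A) - κ * t ^ 2 * (B + x * ω - κ * x ^ 2 * A) = 1 := by
    by_cases hA0 : A = 0
    · have hω0 : ω ≠ 0 := by
        intro h0
        rw [hA0, h0] at hc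
        exact mul_ne_zero (mul_ne_zero h4 hκ0) hv (by rw [hc]; ring)
      refine ⟨-B / ω, 1 / ω, ?_⟩
      rw [hA0]
      field_simp
      ring
    · obtain ⟨Y, X, hXY⟩ := exists_sq_add_sq hA0 (neg_ne_zero.2 (one_ne_zero (α := F)))
        (4 * κ * Q v * (A - 1))
      set x := (X + ω) / (2 * κ * A) with hx
      have hxX : X = 2 * κ * A * x - ω := by
        rw [hx]; field_simp; ring
      set B₁ := B + x * ω - κ * x ^ 2 * A with hB₁
      set L := ω - 2 * κ * x * A with hL
      have hdisc : Y ^ 2 = L ^ 2 + 4 * κ * B₁ * (A - 1) := by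
        refine mul_left_cancel₀ hA0 ?_
        rw [hxX] at hXY
        rw [hL, hB₁]
        linear_combination hXY + (A - 1) * hc
      by_cases hB0 : B₁ = 0
      · have hL0 : L ≠ 0 := by
          intro hL0
          have : 4 * κ * Q v = 0 := by
            rw [hc]
            rw [hL] at hL0
            rw [hB₁] at hB0
            linear_combination (ω - 2 * κ * x * A) * hL0 + 4 * κ * A * hB0
          exact mul_ne_zero (mul_ne_zero h4 hκ0) hv this
        refine ⟨x, (1 - A) / L, ?_⟩
        rw [← hL, ← hB₁, hB0]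
        field_simp
        ring
      · refine ⟨x, (L + Y) / (2 * κ * B₁), ?_⟩
        rw [← hL, ← hB₁]
        field_simp
        linear_combination -hdisc
  set g₁ := sie p.f (x • (w₀ : V)) p.hf (hfw x)
  set g₂ := sie p.e (t • (w₀ : V)) p.he (hew t)
  set v' := (g₂ : V ≃ₗ[F] V) ((g₁ : V ≃ₗ[F] V) v) with hv'
  have hQv' : Q v' = Q v := by rw [hv', O.map_app, O.map_app]
  have hfv' : polar Q p.f v' = 1 := by
    rw [hv', sie_app, sie_app]
    simp only [polar_add_right, polar_sub_right, polar_smul_right', polar_smul_left', qmap_smul,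
      polar_self', p.hf, p.hef, p.hfe, p.f_w, p.e_w, p.w_f, ← hA, ← hB, ← hω, ← hκ]
    linear_combination hxt
  set b := polar Q p.e v' with hb
  set w := v' - p.e - b • p.f with hw
  have hfw' : polar Q p.e w = 0 := by
    rw [hw, polar_sub_right, polar_sub_right, polar_smul_right', polar_self', p.he, p.hef, ← hb]
    ring
  have hew' : polar Q p.f w = 0 := by
    rw [hw, polar_sub_right, polar_sub_right, polar_smul_right', polar_self', p.hf, hfv', p.hfe]
    ring
  refine ⟨sie p.f w p.hf hew' * g₂ * g₁,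
    mul_mem (mul_mem (sie_mem _ _) (sie_mem _ _)) (sie_mem _ _), ?_⟩
  rw [Subgroup.coe_mul, mul_app, Subgroup.coe_mul, mul_app, ← hv', sie_app, hfv']
  have hQw : Q w = Q v - b := by
    simp only [hw, qmap_sub, qmap_smul, polar_sub_left, polar_smul_right', p.he, p.hf, hQv', p.hef,
      polar_comm (⇑Q) v' p.e, polar_comm (⇑Q) v' p.f, hfv', ← hb]
    ring
  have hwv : polar Q w v' = 2 * Q v - 2 * b := by
    rw [hw, polar_sub_left, polar_sub_left, polar_self', polar_smul_left', hfv', ← hb, hQv']; ring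
  rw [hQw, hwv, hw]
  match_scalars <;> ring

/-- Transitivity on spheres in dimension at least three. -/
theorem exists_sie_sphere' (hQ : Nondeg Q) (hn : 4 ≤ finrank F V ∨ (2 : F) ≠ 0 ∧ finrank F V = 3)
    (p : HP Q) {v : V} (hv : Q v ≠ 0) :
    ∃ g ∈ sieGroup Q, (g : V ≃ₗ[F] V) v = p.e + Q v • p.f := by
  rcases hn with hn | ⟨h2, h3⟩
  · exact exists_sie_sphere hQ hn p.he p.hf p.hef hv
  · exact exists_sie_sphere_three hQ h2 h3 p hv

theorem commutator_le_sieGroup (hQ : Nondeg Q)
    (hn : 4 ≤ finrank F V ∨ (2 : F) ≠ 0 ∧ finrank F V = 3) (hgen : reflGroup Q = ⊤) (p : HP Q) :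
    commutator (O Q) ≤ sieGroup Q := by
  have := sieGroup_normal (Q := Q)
  set π := QuotientGroup.mk' (sieGroup Q)
  have hsame : ∀ v v' : V, Q v ≠ 0 → Q v' = Q v → π (rO Q v) = π (rO Q v') := by
    have key : ∀ v, Q v ≠ 0 → π (rO Q v) = π (rO Q (p.e + Q v • p.f)) := fun v hv => by
      obtain ⟨g, hg, hgv⟩ := exists_sie_sphere' hQ hn p hv
      have h1 : π g = 1 := (QuotientGroup.eq_one_iff g).2 hg
      rw [← hgv, ← conj_rO, map_mul, map_mul, map_inv, h1, one_mul, inv_one, mul_one]
    intro v v' hv hvv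
    rw [key v hv, key v' (by rwa [hvv]), hvv]
  have hcentral : ∀ (g : O Q) (v : V), π g * π (rO Q v) = π (rO Q v) * π g := by
    intro g v
    by_cases hv : Q v = 0
    · rw [rO_of_singular hv, map_one, mul_one, one_mul]
    · have h := congrArg π (conj_rO g v)
      rw [map_mul, map_mul, map_inv, ← hsame v _ hv (O.map_app g v)] at h
      exact mul_inv_eq_iff_eq_mul.1 h
  have hcomm : ∀ g h : O Q, π g * π h = π h * π g := by
    intro g h
    have hh : h ∈ reflGroup Q := by rw [hgen]; trivial
    induction hh using Subgroup.closure_induction with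
    | mem x hx => obtain ⟨v, rfl⟩ := hx; exact hcentral g v
    | one => simp
    | mul x y _ _ hx hy => rw [map_mul, ← mul_assoc, hx, mul_assoc, hy, ← mul_assoc]
    | inv x _ hx => rw [map_inv]; exact (Commute.inv_right hx)
  rw [commutator_def, Subgroup.commutator_le]
  intro g _ h _
  rw [← QuotientGroup.eq_one_iff]
  change π ⁅g, h⁆ = 1
  rw [map_commutatorElement, commutatorElement_eq_one_iff_mul_comm]
  exact hcomm g h

/-- Restriction to a non-degenerate subspace preserves the commutator subgroup. -/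
theorem mem_commutator_of_extend (hQ : Nondeg Q) {U : Submodule F V} (hU : Nondeg (restr Q U))
    (hgenQ : reflGroup Q = ⊤) (hgen : reflGroup (restr Q U) = ⊤) {g : O (restr Q U)}
    (hg : extendO hQ hU g ∈ commutator (O Q)) : g ∈ commutator (O (restr Q U)) := by
  have hq : ∀ w : U, Q (w : V) = restr Q U w := fun _ => rfl
  by_cases h2 : (2 : F) = 0
  · rw [commutator_eq_ker_dickson hU hgen h2, MonoidHom.mem_ker]
    rw [commutator_eq_ker_dickson hQ hgenQ h2, MonoidHom.mem_ker] at hg
    have e : (dickson hQ hgenQ).comp (extendO hQ hU) = dickson hU hgen := by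
      refine MonoidHom.eq_of_eqOn_dense hgen ?_
      rintro - ⟨v, rfl⟩
      by_cases hv : restr Q U v = 0
      · rw [rO_of_singular hv, map_one, map_one]
      · rw [MonoidHom.comp_apply, extendO_rO, dickson_rO hU hgen hv,
          dickson_rO hQ hgenQ (by rw [hq]; exact hv)]
    rw [← e, MonoidHom.comp_apply, hg]
  · rw [mem_commutator_iff hU h2]
    rw [mem_commutator_iff hQ h2] at hg
    have e₁ : (detSign Q hQ h2).comp (extendO hQ hU) = detSign (restr Q U) hU h2 :=
      hom_ext_rO hU h2 fun v hv => by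
        rw [MonoidHom.comp_apply, extendO_rO, detSign_rO hU h2 hv,
          detSign_rO hQ h2 (by rw [hq]; exact hv)]
    have e₂ : (spinor Q hQ h2).comp (extendO hQ hU) = spinor (restr Q U) hU h2 :=
      hom_ext_rO hU h2 fun v hv => by
        rw [MonoidHom.comp_apply, extendO_rO, spinor_rO hU h2 hv,
          spinor_rO hQ h2 (by rw [hq]; exact hv), hq]
    rw [← e₁, ← e₂]
    exact hg

/-- The type of the orthogonal of any pair. -/
theorem HasType.perp_pair (hQ : Nondeg Q) {k d : ℕ} (h : HasType Q (k + 1) d) (p : HP Q) :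
    HasType (restr Q p.W) k d := by
  obtain ⟨e₀, f₀, hf₀, ha₀, rfl⟩ := h
  obtain ⟨j, e, f, hf, ha⟩ := (p.nd hQ).exists_frame
  let E : Fin j → V := fun i => (e i : V)
  let G : Fin j → V := fun i => (f i : V)
  have hl : IsFrame Q E G :=
    ⟨fun i => hf.qe i, fun i => hf.qf i, fun a b => by rw [← hf.ef a b, polar_restr],
      fun a b => by rw [← hf.ee a b, polar_restr], fun a b => by rw [← hf.ff a b, polar_restr]⟩
  have he : p.e ∈ IsFrame.kernel Q E G :=
    IsFrame.mem_kernel.2 ⟨fun i => p.w_e (e i), fun i => p.w_e (f i)⟩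
  have hfk : p.f ∈ IsFrame.kernel Q E G :=
    IsFrame.mem_kernel.2 ⟨fun i => p.w_f (e i), fun i => p.w_f (f i)⟩
  have hc := hl.cons he hfk p.he p.hf p.hef
  have hak : Aniso Q (IsFrame.kernel Q (Fin.cons p.e E) (Fin.cons p.f G)) := by
    intro x hx hQx
    have hx' := IsFrame.mem_kernel.1 hx
    have h0 : x ∈ p.W := p.mem_W.2 ⟨by simpa using hx'.1 0, by simpa using hx'.2 0⟩
    have hm : (⟨x, h0⟩ : p.W) ∈ IsFrame.kernel (restr Q p.W) e f :=
      IsFrame.mem_kernel.2 ⟨fun i => by rw [polar_restr]; simpa [E] using hx'.1 i.succ,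
        fun i => by rw [polar_restr]; simpa [G] using hx'.2 i.succ⟩
    exact congrArg Subtype.val (ha _ hm hQx)
  have hj := frame_length_eq hQ hc hak hf₀ ha₀
  have h1 := hf.finrank_kernel (p.nd hQ)
  have h2 := p.finrank_W hQ
  have h3 := hf₀.finrank_kernel hQ
  obtain rfl : j = k := by omega
  exact ⟨e, f, hf, ha, by omega⟩

theorem HasType.aniso (h : ∃ d, HasType Q 0 d) : ∀ x : V, Q x = 0 → x = 0 := by
  obtain ⟨d, e, f, -, ha, -⟩ := h
  exact fun x hx => ha x (IsFrame.mem_kernel.2 ⟨fun i => i.elim0, fun i => i.elim0⟩) hx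

/-- Generation by reflections when the Witt index is one. -/
theorem reflGroup_eq_top_of_type (hQ : Nondeg Q) {d : ℕ} (h : HasType Q 1 d) :
    reflGroup Q = ⊤ := by
  refine reflGroup_eq_top' hQ (Or.inr (Or.inr (Or.inl fun a _ b _ ha hb hab hli => ?_)))
  have ha0 : a ≠ 0 := hli.ne_zero 0
  obtain ⟨a', ha', haa'⟩ := hQ.exists_partner ha0 ha
  let p : HP Q := ⟨a, a', ha, ha', haa'⟩
  have han := HasType.aniso ⟨d, h.perp_pair hQ p⟩
  have hm := p.split b
  have hz := han ⟨_, hm⟩ (by
    rw [restr_apply]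
    simp only [p, hab, zero_smul, sub_zero, qmap_sub, qmap_smul, polar_smul_right', ha, hb,
      polar_comm (⇑Q) b a]
    ring)
  have hz' : b - polar Q a' b • a - polar Q a b • a' = 0 := congrArg Subtype.val hz
  rw [hab, zero_smul, sub_zero, sub_eq_zero] at hz'
  exact (linearIndependent_fin2.1 hli).2 (polar Q a' b)⁻¹ (by
    rcases eq_or_ne (polar Q a' b) 0 with h0 | h0
    · exact absurd (hz'.trans (by rw [h0, zero_smul]) : b = 0) (linearIndependent_fin2.1 hli).1
    · show (polar Q a' b)⁻¹ • b = a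
      rw [inv_smul_eq_iff₀ h0]; exact hz')

end Cfsg.Agent.H53.OmLow
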