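import Cfsg.Agent.H53.OmLow.Scale
import Cfsg.Agent.H53.OmLow.Small

/-!
Stabilisers of a weight act trivially on a weight space of dimension one.
-/

set_option autoImplicit false
set_option linter.unusedSectionVars false

namespace Cfsg.Agent.H53.OmLow

open QuadraticMap Module
open Cfsg.Agent.Orthogonal
open scoped commutatorElement

attribute [local instance] Fintype.ofFinite Classical.propDecidable

variable {F V : Type*} [Field F] [Finite F] [AddCommGroup V] [Module F V] [FiniteDimensional F V]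
variable {Q : QuadraticForm F V}

theorem sg_zero_left {w : V} (hu : Q (0 : V) = 0) (hw : polar Q (0 : V) w = 0) :
    sg (0 : V) w hu hw = 1 := by
  refine Subtype.ext (O.ext_app fun x => ?_)
  rw [sg_val, sie_app]
  simp

theorem sg_zero_right {u : V} (hu : Q u = 0) (hw : polar Q u (0 : V) = 0) :
    sg u (0 : V) hu hw = 1 :=
  Subtype.ext (sie_zero u hu hw)

theorem sg_inv {u w : V} (hu : Q u = 0) (hw : polar Q u w = 0) :
    (sg u w hu hw)⁻¹ = sg u (-w) hu (by rw [polar_neg_right, hw, neg_zero]) :=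
  Subtype.ext (sie_inv hu hw)

theorem sg_add_smul {u w : V} (hu : Q u = 0) (hw : polar Q u w = 0) (a : F) :
    sg u (w + a • u) hu (by rw [polar_add_right, polar_smul_right', polar_self', hw, hu]; ring) =
      sg u w hu hw :=
  Subtype.ext (sie_add_smul hu hw a)

/-- The commutator with an element moving the axis along itself. -/
theorem comm_sg {c w : V} (hc : Q c = 0) (hw : polar Q c w = 0) {k : sieGroup Q} {μ : F}
    (hμ : μ ≠ 0) (hkc : ap k c = μ • c) {d : V} (hd : polar Q c d = 0)
    (hkd : μ • ap k w - w = d) : ⁅k, sg c w hc hw⁆ = sg c d hc hd := by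
  have hkw : polar Q (μ • c) (ap k w) = 0 := by rw [← hkc]; exact (O.polar_app _ _ _).trans hw
  have hkw' : polar Q c (μ • ap k w) = 0 := by
    rwa [polar_smul_right', ← polar_smul_left']
  rw [commutatorElement_def, sg_conj, sg_inv]
  rw [sg_congr (hu' := by rw [qmap_smul, hc, mul_zero]) (hw' := hkw) hkc rfl]
  rw [show sg (μ • c) (ap k w) (by rw [qmap_smul, hc, mul_zero]) hkw =
    sg c (μ • ap k w) hc hkw' from Subtype.ext (sie_smul hc (by
      rw [polar_smul_left'] at hkw; exact (mul_eq_zero.1 hkw).resolve_left hμ) μ), sg_mul]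
  exact sg_congr rfl (by rw [← hkd, sub_eq_add_neg])

section Line

variable {M : Type*} [AddCommGroup M] [Module ℂ M] [FiniteDimensional ℂ M]
variable (ρ : Representation ℂ (sieGroup Q) M) (p : HP Q) (u : p.W)

/-- Commuting with the projection on a weight. -/
def Cm (k : sieGroup Q) : Prop := ρ k * wP ρ p u = wP ρ p u * ρ k

/-- Acting trivially on a weight space. -/
def killed : Subgroup (sieGroup Q) where
  carrier := {k | ∀ z, ρ k (wP ρ p u z) = wP ρ p u z}
  one_mem' := fun z => by rw [map_one, Module.End.one_apply]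
  mul_mem' := fun {a b} ha hb z => by rw [map_mul, Module.End.mul_apply, hb z, ha z]
  inv_mem' := fun {a} ha z => by
    conv_lhs => rw [← ha z]
    exact map_inv_apply_eq ρ a _

theorem mem_killed {k : sieGroup Q} :
    k ∈ killed ρ p u ↔ ∀ z, ρ k (wP ρ p u z) = wP ρ p u z := Iff.rfl

theorem cm_mul {k l : sieGroup Q} (hk : Cm ρ p u k) (hl : Cm ρ p u l) : Cm ρ p u (k * l) := by
  unfold Cm at *
  rw [map_mul, mul_assoc, hl, ← mul_assoc, hk, mul_assoc]

theorem cm_inv {k : sieGroup Q} (hk : Cm ρ p u k) : Cm ρ p u k⁻¹ := by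
  unfold Cm at *
  calc ρ k⁻¹ * wP ρ p u = ρ k⁻¹ * (wP ρ p u * (ρ k * ρ k⁻¹)) := by
        rw [← map_mul, mul_inv_cancel, map_one, mul_one]
    _ = ρ k⁻¹ * (ρ k * wP ρ p u) * ρ k⁻¹ := by
        rw [hk]; simp only [mul_assoc]
    _ = wP ρ p u * ρ k⁻¹ := by
        rw [← mul_assoc (ρ k⁻¹), ← map_mul, inv_mul_cancel, map_one, one_mul]

/-- Commutators of elements preserving a weight line act trivially on it. -/
theorem comm_killed (hr : mult ρ p u ≤ 1) {k l : sieGroup Q} (hk : Cm ρ p u k) (hl : Cm ρ p u l) :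
    ⁅k, l⁆ ∈ killed ρ p u := by
  intro z
  set y := ρ (l * k)⁻¹ z with hy
  have hy' : ρ (l * k)⁻¹ (wP ρ p u z) = wP ρ p u y :=
    LinearMap.congr_fun (cm_inv ρ p u (cm_mul ρ p u hl hk)) z
  have e : ⁅k, l⁆ = k * l * (l * k)⁻¹ := by rw [commutatorElement_def, mul_inv_rev]; group
  rw [e, map_mul, Module.End.mul_apply, hy']
  have hcomm : ρ (k * l) (wP ρ p u y) = ρ (l * k) (wP ρ p u y) := by
    by_cases h0 : wP ρ p u y = 0
    · rw [h0, map_zero, map_zero]
    have h1 : finrank ℂ (LinearMap.range (wP ρ p u)) = 1 := by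
      refine le_antisymm hr (Nat.one_le_iff_ne_zero.2 fun h => h0 ?_)
      exact ((mult_eq_zero_iff ρ p u).1 h) y
    obtain ⟨⟨b, hb⟩, -, hspan⟩ := finrank_eq_one_iff'.1 h1
    have hsc : ∀ g, Cm ρ p u g → ∃ s : ℂ, ρ g b = s • b := fun g hg => by
      obtain ⟨b', rfl⟩ := hb
      obtain ⟨s, hs⟩ := hspan ⟨ρ g (wP ρ p u b'),
        ⟨ρ g b', (LinearMap.congr_fun hg b').symm⟩⟩
      exact ⟨s, (congrArg Subtype.val hs).symm⟩
    obtain ⟨s, hs⟩ := hsc k hk
    obtain ⟨t, ht⟩ := hsc l hl
    obtain ⟨r, hr'⟩ := hspan ⟨wP ρ p u y, LinearMap.mem_range_self _ y⟩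
    rw [show wP ρ p u y = r • b from (congrArg Subtype.val hr').symm]
    simp only [map_mul, Module.End.mul_apply, map_smul, hs, ht, smul_smul]
    congr 1
    ring
  rw [hcomm, ← hy', ← Module.End.mul_apply, ← map_mul, mul_inv_cancel, map_one,
    Module.End.one_apply]

variable (hQ : Nondeg Q)

include hQ

theorem cm_emb (h : sieGroup (restr Q p.W)) (hu : apW h u = u) : Cm ρ p u (emb hQ p h) := by
  unfold Cm
  rw [emb_conj_wP ρ p hQ h u, show ((h : O (restr Q p.W)) : p.W ≃ₗ[F] p.W) u = u from hu]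

theorem cm_sg {a w : p.W} (ha : Q (a : V) = 0) (haw : polar Q (a : V) (w : V) = 0)
    (hau : polar Q (a : V) (u : V) = 0) (hwu : polar Q (w : V) (u : V) = 0) :
    Cm ρ p u (sg (a : V) (w : V) ha haw) := by
  have haw' : polar (restr Q p.W) a w = 0 := by rw [polar_restr]; exact haw
  have e := emb_sg hQ p (u := a) (w := w) ha haw'
  rw [← e]
  refine cm_emb ρ p u hQ _ ?_
  exact sie_fix' (show restr Q p.W a = 0 from ha) haw' (by rw [polar_restr]; exact hau)
    (by rw [polar_restr]; exact hwu)

theorem killed_of_singular (hr : mult ρ p u ≤ 1) {a x : p.W} (ha : Q (a : V) = 0)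
    (hx : Q (x : V) = 0) (hax : polar Q (a : V) (x : V) = 0) (hau : polar Q (a : V) (u : V) = 0)
    (hxu : polar Q (x : V) (u : V) = 0)
    (hdim : 2 * finrank F (Submodule.span F ({a, x, u} : Set p.W)) < finrank F p.W) :
    sg (a : V) (x : V) ha hax ∈ killed ρ p u := by
  have hR := p.nd hQ
  set R := restr Q p.W
  set S := Submodule.span F ({a, x, u} : Set p.W) with hS
  have hSperp := hR.finrank_add_perp S
  obtain ⟨x0, hx0, hx0S⟩ : ∃ x0 ∈ perp R S, x0 ∉ S := by
    refine SetLike.not_le_iff_exists.1 fun hle => ?_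
    have := Submodule.finrank_mono hle
    omega
  obtain ⟨s, hs, hs0⟩ : ∃ s ∈ perp R S, polar R s x0 ≠ 0 := by
    by_contra hne
    push Not at hne
    exact hx0S (by rw [← hR.perp_perp S]; exact hne)
  have mS : ∀ {y : p.W}, y ∈ ({a, x, u} : Set p.W) → y ∈ S := fun hy => Submodule.subset_span hy
  have h0a : polar Q (a : V) (x0 : V) = 0 := by rw [← polar_restr]; exact hx0 a (mS (by simp))
  have h0x : polar Q (x : V) (x0 : V) = 0 := by rw [← polar_restr]; exact hx0 x (mS (by simp))
  have h0u : polar Q (u : V) (x0 : V) = 0 := by rw [← polar_restr]; exact hx0 u (mS (by simp))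
  set s' : p.W := (polar R s x0)⁻¹ • s with hs'
  have hs'S : s' ∈ perp R S := (perp R S).smul_mem _ hs
  have hsa : polar Q (a : V) (s' : V) = 0 := by rw [← polar_restr]; exact hs'S a (mS (by simp))
  have hsx : polar Q (x : V) (s' : V) = 0 := by rw [← polar_restr]; exact hs'S x (mS (by simp))
  have hsu : polar Q (u : V) (s' : V) = 0 := by rw [← polar_restr]; exact hs'S u (mS (by simp))
  have hs1 : polar Q (s' : V) (x0 : V) = 1 := by
    rw [← polar_restr, hs', polar_smul_left', inv_mul_cancel₀ hs0]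
  have h := comm_killed ρ p u hr
    (cm_sg ρ p u hQ hx hsx hxu (by rw [polar_comm]; exact hsu))
    (cm_sg ρ p u hQ ha h0a hau (by rw [polar_comm]; exact h0u))
  rwa [comm_sg ha h0a (μ := 1) one_ne_zero (by
      rw [one_smul]
      exact sg_fix _ _ (by rw [polar_comm]; exact hax) (by rw [polar_comm]; exact hsa))
    (d := (x : V)) hax (by
      rw [one_smul]
      show ((sie (x : V) (s' : V) hx hsx : O Q) : V ≃ₗ[F] V) (x0 : V) - _ = _
      rw [sie_app, h0x, hs1, mul_zero, sub_zero, one_smul, zero_smul, sub_zero,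
        add_sub_cancel_left])] at h

theorem killed_general (hr : mult ρ p u ≤ 1) {a t : p.W} (ha : Q (a : V) = 0)
    (hat : polar Q (a : V) (t : V) = 0) (hau : polar Q (a : V) (u : V) = 0)
    (htu : polar Q (t : V) (u : V) = 0)
    (hdim : ∀ x : p.W, 2 * finrank F (Submodule.span F ({a, x, u} : Set p.W)) < finrank F p.W)
    {s y : p.W} (hs : Q (s : V) = 0) (hsa : polar Q (a : V) (s : V) = 0)
    (hsu : polar Q (s : V) (u : V) = 0) (hya : polar Q (a : V) (y : V) = 0)
    (hyu : polar Q (y : V) (u : V) = 0) (hsy : polar Q (s : V) (y : V) ≠ 0) :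
    sg (a : V) (t : V) ha hat ∈ killed ρ p u := by
  have key : ∀ t : p.W, ∀ (h1 : polar Q (a : V) (t : V) = 0), polar Q (t : V) (u : V) = 0 →
      polar Q (s : V) (t : V) ≠ 0 → sg (a : V) (t : V) ha h1 ∈ killed ρ p u := by
    intro t h1 h2 h3
    set l := -Q (t : V) / polar Q (s : V) (t : V)
    set x : p.W := t + l • s with hx
    have hQx : Q (x : V) = 0 := by
      rw [hx, Submodule.coe_add, Submodule.coe_smul, map_add_polar, qmap_smul, hs,
        polar_smul_right', polar_comm (⇑Q) (t : V), mul_zero, add_zero, div_mul_cancel₀ _ h3]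
      ring
    have hax : polar Q (a : V) (x : V) = 0 := by
      rw [hx, Submodule.coe_add, Submodule.coe_smul, polar_add_right, polar_smul_right', h1, hsa,
        mul_zero, add_zero]
    have hxu : polar Q (x : V) (u : V) = 0 := by
      rw [hx, Submodule.coe_add, Submodule.coe_smul, polar_add_left, polar_smul_left', h2, hsu,
        mul_zero, add_zero]
    have hls : Q (((-l) • s : p.W) : V) = 0 := by
      rw [Submodule.coe_smul, qmap_smul, hs, mul_zero]
    have hal : polar Q (a : V) (((-l) • s : p.W) : V) = 0 := by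
      rw [Submodule.coe_smul, polar_smul_right', hsa, mul_zero]
    have := mul_mem (killed_of_singular ρ p u hQ hr ha hQx hax hau hxu (hdim x))
      (killed_of_singular ρ p u hQ hr ha hls hal hau
        (by rw [Submodule.coe_smul, polar_smul_left', hsu, mul_zero]) (hdim ((-l) • s)))
    rw [sg_mul] at this
    rwa [sg_congr (hu' := ha) (hw' := h1) rfl (show (x : V) + (((-l) • s : p.W) : V) = (t : V) by
      rw [← Submodule.coe_add, hx, neg_smul, add_neg_cancel_right])] at this
  by_cases h3 : polar Q (s : V) (t : V) = 0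
  · have h1 : polar Q (a : V) ((t + y : p.W) : V) = 0 := by
      rw [Submodule.coe_add, polar_add_right, hat, hya, add_zero]
    have := mul_mem (key (t + y) h1 (by rw [Submodule.coe_add, polar_add_left, htu, hyu, add_zero])
      (by rwa [Submodule.coe_add, polar_add_right, h3, zero_add])) (inv_mem (key y hya hyu hsy))
    rw [sg_inv, sg_mul] at this
    rwa [sg_congr (hu' := ha) (hw' := hat) rfl
      (show ((t + y : p.W) : V) + -(y : V) = (t : V) by
        rw [Submodule.coe_add, add_neg_cancel_right])] at this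
  · exact key t hat htu h3

omit hQ in
theorem finrank_span_triple (a x : p.W) :
    finrank F (Submodule.span F ({a, x, u} : Set p.W)) ≤ 3 := by
  classical
  refine (finrank_span_le_card _).trans ?_
  rw [Set.toFinset_insert, Set.toFinset_insert, Set.toFinset_singleton]
  exact Finset.card_le_three

omit hQ in
theorem finrank_span_double (x : p.W) :
    finrank F (Submodule.span F ({u, x, u} : Set p.W)) ≤ 2 := by
  classical
  rw [show ({u, x, u} : Set p.W) = {u, x} by ext; simp; tauto]
  refine (finrank_span_le_card _).trans ?_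
  rw [Set.toFinset_insert, Set.toFinset_singleton]
  exact Finset.card_le_two

/-- The mild invariance for a weight of non-zero norm. -/
theorem stabE_nonsingular (hr : mult ρ p u ≤ 1) (hW : 7 ≤ finrank F p.W) {a t : p.W}
    (ha : Q (a : V) = 0) (hat : polar Q (a : V) (t : V) = 0) (hau : polar Q (a : V) (u : V) = 0)
    (htu : polar Q (t : V) (u : V) = 0) :
    sg (a : V) (t : V) ha hat ∈ killed ρ p u := by
  rcases eq_or_ne a 0 with rfl | ha0
  · convert one_mem (killed ρ p u)
    exact (sg_congr Submodule.coe_zero rfl).trans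
      (sg_zero_left (QuadraticMap.map_zero _) (polar_zero_left (Q := Q) _))
  have hR := p.nd hQ
  obtain ⟨b, hb, hab⟩ := hR.exists_partner ha0 ha
  let p₁ : HP (restr Q p.W) := ⟨a, b, ha, hb, hab⟩
  have hd := p₁.finrank_W hR
  set u'' : p₁.W := ⟨_, p₁.split u⟩ with hu''
  obtain ⟨p₂, hp₂⟩ := exists_orth_hp (p₁.nd hR) (by omega) u''
  have hp₂' := p₂.mem_W.1 hp₂
  have hau' : polar (restr Q p.W) p₁.e u = 0 := by rw [polar_restr]; exact hau
  have hzu : ∀ z : p₁.W, polar (restr (restr Q p.W) p₁.W) z u'' = 0 →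
      polar Q ((z : p.W) : V) (u : V) = 0 := by
    intro z hz
    rw [polar_restr, hu''] at hz
    simp only [hau', zero_smul, sub_zero, polar_sub_right, polar_smul_right', p₁.w_e z,
      mul_zero] at hz
    rwa [polar_restr] at hz
  refine killed_general ρ p u hQ hr ha hat hau htu (fun x => ?_) (s := (p₂.e : p.W))
    (y := (p₂.f : p.W)) p₂.he ?_ (hzu _ hp₂'.1) ?_ (hzu _ hp₂'.2) ?_
  · have := finrank_span_triple p u a x
    omega
  · rw [← polar_restr]; exact p₁.e_w p₂.e
  · rw [← polar_restr]; exact p₁.e_w p₂.f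
  · rw [← polar_restr, ← polar_restr, p₂.hef]; exact one_ne_zero

/-- Eichler elements along the weight itself. -/
theorem killed_axis (hr : mult ρ p u ≤ 1) (hW : 5 ≤ finrank F p.W) (hu : u ≠ 0)
    (hQu : Q (u : V) = 0) {t : p.W} (ht : polar Q (u : V) (t : V) = 0) :
    sg (u : V) (t : V) hQu ht ∈ killed ρ p u := by
  have hR := p.nd hQ
  obtain ⟨b, hb, hub⟩ := hR.exists_partner hu hQu
  let p₁ : HP (restr Q p.W) := ⟨u, b, hQu, hb, hub⟩
  have hd := p₁.finrank_W hR
  obtain ⟨p₂⟩ := exists_hp (p₁.nd hR) (by omega)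
  have h1 : ∀ z : p₁.W, polar Q (u : V) ((z : p.W) : V) = 0 := fun z => by
    rw [← polar_restr]; exact p₁.e_w z
  refine killed_general ρ p u hQ hr hQu ht (by rw [polar_self', hQu, mul_zero])
    (by rw [polar_comm]; exact ht) (fun x => ?_) (s := (p₂.e : p.W))
    (y := (p₂.f : p.W)) p₂.he (h1 _) (by rw [polar_comm]; exact h1 _) (h1 _)
    (by rw [polar_comm]; exact h1 _) ?_
  · have := finrank_span_double p u x
    omega
  · rw [← polar_restr, ← polar_restr, p₂.hef]; exact one_ne_zero

end Line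

end Cfsg.Agent.H53.OmLow
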