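import Cfsg.Agent.H53.OmLow.Stab

/-!
The full stabiliser of a singular weight acts trivially on a weight space of dimension one.
-/

set_option autoImplicit false
set_option linter.unusedSectionVars false

namespace Cfsg.Agent.H53.OmLow

open QuadraticMap Module
open Cfsg.Agent.Orthogonal
open scoped commutatorElement

attribute [local instance] Fintype.ofFinite Classical.propDecidable

section Plane

variable {F V : Type*} [Field F] [Finite F] [AddCommGroup V] [Module F V] [FiniteDimensional F V]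
variable {Q : QuadraticForm F V}

/-- An anisotropic plane has a commutator without fixed vectors. -/
theorem exists_rotation (hQ : Nondeg Q) (h2 : finrank F V = 2) (ha : ∀ x, Q x = 0 → x = 0) :
    ∃ r ∈ commutator (O Q), ∀ y : V, ∃ z, (r : V ≃ₗ[F] V) z - z = y := by
  have : Nontrivial V := Module.finrank_pos_iff.1 (by omega : 0 < finrank F V)
  obtain ⟨v, hv⟩ := exists_ne (0 : V)
  have hQv : Q v ≠ 0 := fun h => hv (ha v h)
  obtain ⟨y, hy⟩ := hQ.exists_polar_eq hv 1
  obtain ⟨w, hwv, hwsp⟩ : ∃ w, polar Q v w ≠ 0 ∧ w ∉ Submodule.span F {v} := by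
    by_cases hys : y ∈ Submodule.span F {v}
    · obtain ⟨w₁, hw₁, hvw₁⟩ := hQ.exists_perp_vec h2 hv
      obtain ⟨t, ht⟩ := Submodule.mem_span_singleton.1 hys
      refine ⟨y + w₁, by rw [polar_add_right, hvw₁, add_zero, hy]; exact one_ne_zero, fun hm => ?_⟩
      obtain ⟨s, hs⟩ := Submodule.mem_span_singleton.1
        ((Submodule.add_mem_iff_right _ hys).1 hm)
      rw [← hs, polar_smul_right', polar_self'] at hvw₁
      rw [← ht, polar_smul_right', polar_self'] at hy
      have h20 : 2 * Q v ≠ 0 := fun h => by rw [h, mul_zero] at hy; exact zero_ne_one hy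
      rw [(mul_eq_zero.1 hvw₁).resolve_right h20, zero_smul] at hs
      exact hw₁ hs.symm
    · exact ⟨y, by rw [hy]; exact one_ne_zero, hys⟩
  have hw : w ≠ 0 := fun h => hwsp (h ▸ Submodule.zero_mem _)
  have hQw : Q w ≠ 0 := fun h => hw (ha w h)
  set r : O Q := ⁅rO Q v, rO Q w⁆ with hr
  have hr1 : r ≠ 1 := by
    intro h1
    rw [hr, commutatorElement_eq_one_iff_mul_comm] at h1
    have h3 : rO Q v * rO Q w * (rO Q v)⁻¹ = rO Q w := by rw [h1, mul_inv_cancel_right]
    rw [conj_rO] at h3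
    set x := (rO Q v : V ≃ₗ[F] V) w with hx
    have hli : LinearIndependent F ![v, w] := by
      rw [LinearIndependent.pair_iff]
      intro s t hst
      by_cases ht : t = 0
      · subst ht; rw [zero_smul, add_zero, smul_eq_zero] at hst
        exact ⟨hst.resolve_right hv, rfl⟩
      · refine absurd (Submodule.mem_span_singleton.2 ⟨-s / t, ?_⟩) hwsp
        have : w = t⁻¹ • (-(s • v)) := by
          rw [eq_neg_of_add_eq_zero_left hst, neg_neg, inv_smul_smul₀ ht]
        rw [this, smul_neg, smul_smul, ← neg_smul]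
        congr 1
        field_simp
    have hx' : x = w - ((Q v)⁻¹ * polar Q v w) • v := rO_app Q v w
    have hQx : Q x ≠ 0 := by rw [hx, O.map_app]; exact hQw
    have hxz : x = 0 := by
      refine hQ x fun z => ?_
      have h4 := congrArg (fun g : O Q => (g : V ≃ₗ[F] V) z) h3
      simp only [rO_app, sub_right_inj] at h4
      set α := (Q x)⁻¹ * polar Q x z
      set β := (Q w)⁻¹ * polar Q w z
      have h5 : (-(α * ((Q v)⁻¹ * polar Q v w))) • v + (α - β) • w = 0 := by
        rw [hx'] at h4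
        linear_combination (norm := module) h4
      have h6 := (LinearIndependent.pair_iff.1 hli _ _ h5).1
      rw [neg_eq_zero, mul_eq_zero, or_iff_left (mul_ne_zero (inv_ne_zero hQv) hwv), mul_eq_zero,
        or_iff_right (inv_ne_zero hQx)] at h6
      exact h6
    exact hw ((LinearEquiv.map_eq_zero_iff _).1 hxz)
  have hrc : r ∈ commutator (O Q) :=
    Subgroup.commutator_mem_commutator (Subgroup.mem_top _) (Subgroup.mem_top _)
  refine ⟨r, hrc, fun y => ?_⟩
  have hinj : Function.Injective (((r : V ≃ₗ[F] V) : V →ₗ[F] V) - (LinearMap.id : V →ₗ[F] V)) := by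
    rw [← LinearMap.ker_eq_bot]
    refine LinearMap.ker_eq_bot'.2 fun x hx => ?_
    by_contra hx0
    rw [LinearMap.sub_apply, LinearMap.id_apply, sub_eq_zero] at hx
    obtain ⟨x', hx', hxx'⟩ := hQ.exists_perp_vec h2 hx0
    rcases hQ.stab_plane h2 ha hx0 hx' hxx' (g := r) hx with h | h
    · exact hr1 h
    · have hgen := reflGroup_eq_top hQ (Or.inr (by omega))
      have h1 : dickson hQ hgen r = 1 := by
        rw [hr, map_commutatorElement, commutatorElement_eq_one_iff_mul_comm, mul_comm]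
      rw [h, dickson_rO hQ hgen fun e => hx' (ha x' e)] at h1
      exact absurd h1 (by decide)
  exact LinearMap.injective_iff_surjective.1 hinj y

end Plane

section Stab

variable {F V : Type*} [Field F] [Finite F] [AddCommGroup V] [Module F V] [FiniteDimensional F V]
variable {Q : QuadraticForm F V}
variable {M : Type*} [AddCommGroup M] [Module ℂ M] [FiniteDimensional ℂ M]
variable (ρ : Representation ℂ (sieGroup Q) M) (hQ : Nondeg Q) (p : HP Q)
variable (p₁ : HP (restr Q p.W))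

/-- The elements of the second orthogonal killed on the weight space of the pair's point. -/
noncomputable def killed₂ : Subgroup (sieGroup (restr (restr Q p.W) p₁.W)) :=
  (killed ρ p p₁.e).comap ((emb hQ p).comp (emb (p.nd hQ) p₁))

theorem mem_killed₂ (g : sieGroup (restr (restr Q p.W) p₁.W)) :
    g ∈ killed₂ ρ hQ p p₁ ↔ emb hQ p (emb (p.nd hQ) p₁ g) ∈ killed ρ p p₁.e :=
  Subgroup.mem_comap

theorem cm_emb₂ (g : sieGroup (restr (restr Q p.W) p₁.W)) :
    Cm ρ p p₁.e (emb hQ p (emb (p.nd hQ) p₁ g)) :=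
  cm_emb ρ p p₁.e hQ _ (emb_e (p.nd hQ) p₁ g)

variable (hr : mult ρ p p₁.e ≤ 1)

include hr

theorem killed₂_of_five (h5 : 5 ≤ finrank F p₁.W) : killed₂ ρ hQ p p₁ = ⊤ := by
  set R'' := restr (restr Q p.W) p₁.W
  have hle : sieGroup R'' ≤ (killed₂ ρ hQ p p₁).map (sieGroup R'').subtype := by
    refine sieGroup_le_of_commutators (p₁.nd (p.nd hQ)) h5 _ fun g hg h hh => ?_
    refine ⟨⁅(⟨g, hg⟩ : sieGroup R''), ⟨h, hh⟩⁆, ?_, rfl⟩
    refine (mem_killed₂ ρ hQ p p₁ _).2 ?_
    rw [map_commutatorElement, map_commutatorElement]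
    exact comm_killed ρ p p₁.e hr (cm_emb₂ ρ hQ p p₁ _) (cm_emb₂ ρ hQ p p₁ _)
  rw [eq_top_iff]
  rintro ⟨g, hg⟩ -
  obtain ⟨g', hg', e⟩ := hle hg
  rwa [show (⟨g, hg⟩ : sieGroup R'') = g' from Subtype.ext e.symm]

set_option maxHeartbeats 2000000 in
theorem killed₂_of_gens
    (h : ∀ (p₂ : HP (restr (restr Q p.W) p₁.W)) (z : p₂.W),
      emb hQ p (emb (p.nd hQ) p₁ (xr p₂ z)) ∈ killed ρ p p₁.e) :
    killed₂ ρ hQ p p₁ = ⊤ := by
  have hR2 := p₁.nd (p.nd hQ)
  set K := killed₂ ρ hQ p p₁ with hK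
  have hgen : ∀ (c w : p₁.W) (hc : restr (restr Q p.W) p₁.W c = 0)
      (hw : polar (restr (restr Q p.W) p₁.W) c w = 0), sg c w hc hw ∈ K := by
    intro c w hc hw
    rcases eq_or_ne c 0 with rfl | hc0
    · rw [sg_zero_left]; exact one_mem K
    obtain ⟨d, hd, hcd⟩ := hR2.exists_partner hc0 hc
    let p₂ : HP (restr (restr Q p.W) p₁.W) := ⟨c, d, hc, hd, hcd⟩
    have hz := p₂.split w
    rw [show p₂.e = c from rfl, hw, zero_smul, sub_zero] at hz
    have e := h p₂ ⟨_, hz⟩
    have : sg c w hc hw = xr p₂ ⟨_, hz⟩ :=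
      (sg_add_smul hc hw (-polar (restr (restr Q p.W) p₁.W) p₂.f w)).symm.trans
        (sg_congr rfl (by rw [neg_smul, ← sub_eq_add_neg]))
    rw [this, hK, mem_killed₂]
    exact e
  have hle : sieGroup (restr (restr Q p.W) p₁.W) ≤ K.map (Subgroup.subtype _) := by
    refine (Subgroup.closure_le _).2 ?_
    rintro y ⟨c, w, hc, hw, rfl⟩
    exact ⟨sg c w hc hw, hgen c w hc hw, rfl⟩
  rw [eq_top_iff]
  rintro g -
  obtain ⟨g', hg', e⟩ := hle g.2
  rwa [← Subtype.ext e]

set_option maxHeartbeats 2000000 in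
theorem killed₂_of_large {l : F} (hl : l ≠ 0) (hl2 : l ^ 2 ≠ 1) : killed₂ ρ hQ p p₁ = ⊤ := by
  refine killed₂_of_gens ρ hQ p p₁ hr fun p₂ z => ?_
  set c : p.W := ((p₂.e : p₁.W) : p.W)
  let p₂' : HP (restr Q p.W) := p₁.lift p₂
  set k₁ := scal p p₂' l hl with hk₁
  set k₂ := emb hQ p (scal p₁ p₂ l hl) with hk₂
  set k := k₁ * k₂ with hk
  have hue : p₁.e ∈ p₂'.W := p₂'.mem_W.2 ⟨p₁.w_e p₂.e, p₁.w_e p₂.f⟩
  have k2W : ∀ x : p.W, ap k₂ (x : V) = ((apW (scal p₁ p₂ l hl) x : p.W) : V) := fun x =>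
    emb_app hQ p _ x
  have hke : ap k p.e = l • p.e := by
    rw [hk, ap_mul, show ap k₂ p.e = p.e from emb_e hQ p _, hk₁, scal_e]
  have hku : ap k (p₁.e : V) = l • (p₁.e : V) := by
    rw [hk, ap_mul, k2W, show apW (scal p₁ p₂ l hl) p₁.e = l • p₁.e from scal_e p₁ p₂ hl,
      Submodule.coe_smul, map_smul, hk₁, scal_fix p p₂' hl hue]
  have hkW : ∀ x ∈ p.W, ap k x ∈ p.W := fun x hx => by
    rw [hk, ap_mul, k2W ⟨x, hx⟩]
    exact scal_mem p p₂' hl _ (Subtype.prop _)
  have hkc : ap k (c : V) = (l⁻¹ * l⁻¹) • (c : V) := by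
    rw [hk, ap_mul, k2W, show apW (scal p₁ p₂ l hl) c = l⁻¹ • c from scal_a p₁ p₂ hl,
      Submodule.coe_smul, map_smul, hk₁,
      show ap (scal p p₂' l hl) (c : V) = l⁻¹ • (c : V) from scal_a p p₂' hl, smul_smul]
  have hkz : ∀ w : p₂.W, ap k (((w : p₁.W) : p.W) : V) = (((w : p₁.W) : p.W) : V) := fun w => by
    rw [hk, ap_mul, k2W, show apW (scal p₁ p₂ l hl) ((w : p₁.W) : p.W) = ((w : p₁.W) : p.W) from
      scal_fix p₁ p₂ hl w.2, hk₁]
    refine scal_fix p p₂' hl (p₂'.mem_W.2 ⟨?_, ?_⟩)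
    · have := p₂.e_w w; rwa [polar_restr] at this
    · have := p₂.f_w w; rwa [polar_restr] at this
  have hcm : Cm ρ p p₁.e k :=
    conj_wP ρ p hl hke hkW (by
      rw [show ((k : O Q) : V ≃ₗ[F] V) (p₁.e : V) = l • (p₁.e : V) from hku, smul_smul,
        inv_mul_cancel₀ hl, one_smul])
  set μ := l⁻¹ * l⁻¹ with hμ
  have hμ1 : μ - 1 ≠ 0 := fun h => hl2 (by
    rw [sub_eq_zero, hμ, ← mul_inv, inv_eq_one] at h
    rw [pow_two]; exact h)
  set w₀ : p₂.W := (μ - 1)⁻¹ • z
  have hcw : ∀ w : p₂.W, polar Q (c : V) (((w : p₁.W) : p.W) : V) = 0 := fun w => by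
    rw [← polar_restr, ← polar_restr]; exact p₂.e_w w
  have hcu : polar Q (c : V) (p₁.e : V) = 0 := by rw [← polar_restr]; exact p₁.w_e p₂.e
  have hwu : ∀ w : p₂.W, polar Q (((w : p₁.W) : p.W) : V) (p₁.e : V) = 0 := fun w => by
    rw [← polar_restr]; exact p₁.w_e _
  have hcomm := comm_killed ρ p p₁.e hr hcm
    (cm_sg ρ p p₁.e hQ (a := c) (w := ((w₀ : p₁.W) : p.W)) p₂.he (hcw w₀) hcu (hwu w₀))
  rw [comm_sg (show Q (c : V) = 0 from p₂.he) (hcw w₀)
    (mul_ne_zero (inv_ne_zero hl) (inv_ne_zero hl)) hkc (d := (((z : p₁.W) : p.W) : V)) (hcw z) (by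
      rw [hkz, ← hμ]
      simp only [w₀, Submodule.coe_smul, smul_smul]
      rw [← sub_smul, show μ * (μ - 1)⁻¹ - (μ - 1)⁻¹ = 1 by field_simp, one_smul])] at hcomm
  rw [xr, emb_sg, emb_sg]
  exact hcomm

set_option maxHeartbeats 2000000 in
theorem killed₂_of_plane (hR2 : HasType (restr (restr Q p.W) p₁.W) 1 2) :
    killed₂ ρ hQ p p₁ = ⊤ := by
  refine killed₂_of_gens ρ hQ p p₁ hr fun p₂ z => ?_
  have hd := p₁.nd (p.nd hQ)
  have hT := hR2.perp_pair hd p₂
  have hd2 := hR2.finrank_eq hd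
  obtain ⟨r, hrc, hsurj⟩ := exists_rotation (p₂.nd hd)
    ((hT.finrank_eq (p₂.nd hd)).trans (by norm_num)) (HasType.aniso ⟨2, hT⟩)
  set R₂ := extendO hd (p₂.nd hd) r
  have hmem : R₂ ∈ sieGroup (restr (restr Q p.W) p₁.W) := by
    refine commutator_le_sieGroup hd (Or.inl (by omega)) (reflGroup_eq_top_of_type hd hR2) p₂ ?_
    have := Subgroup.mem_map_of_mem (extendO hd (p₂.nd hd)) hrc
    simp only [commutator_def, Subgroup.map_commutator] at this
    exact Subgroup.commutator_mono le_top le_top this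
  obtain ⟨z₀, hz₀⟩ := hsurj z
  have hfixc : apW (⟨R₂, hmem⟩ : sieGroup (restr (restr Q p.W) p₁.W)) p₂.e = p₂.e :=
    extendO_app_perp hd (p₂.nd hd) r (perp_perp_le _ _ (Submodule.subset_span (Set.mem_insert _ _)))
  have hcomm := comm_killed ρ p p₁.e hr
    (cm_emb₂ ρ hQ p p₁ ⟨R₂, hmem⟩) (cm_emb₂ ρ hQ p p₁ (xr p₂ z₀))
  rw [← map_commutatorElement, ← map_commutatorElement] at hcomm
  have e : ⁅(⟨R₂, hmem⟩ : sieGroup (restr (restr Q p.W) p₁.W)), xr p₂ z₀⁆ = xr p₂ z :=
    comm_sg p₂.he (p₂.e_w z₀) one_ne_zero (by rw [one_smul]; exact hfixc) (p₂.e_w z) (by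
      rw [one_smul, ← hz₀, Submodule.coe_sub]
      exact congrArg (· - _) (extendO_app hd (p₂.nd hd) r z₀))
  rwa [e] at hcomm

end Stab

/-- The stabiliser of a singular weight acts trivially on a weight line. -/
theorem stab_singular {F V : Type*} [Field F] [Finite F] [AddCommGroup V] [Module F V]
    [FiniteDimensional F V] {Q : QuadraticForm F V} {M : Type*} [AddCommGroup M] [Module ℂ M]
    [FiniteDimensional ℂ M] (ρ : Representation ℂ (sieGroup Q) M) (hQ : Nondeg Q) (p : HP Q)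
    (hW : 5 ≤ finrank F p.W)
    (hcase : (3 < Nat.card F ∧ (6 ≤ finrank F p.W ∨ (2 : F) ≠ 0)) ∨ 7 ≤ finrank F p.W ∨
      HasType (restr Q p.W) 2 2)
    (u : p.W) (hu : u ≠ 0) (hQu : Q (u : V) = 0) (hr : mult ρ p u ≤ 1)
    (h : sieGroup (restr Q p.W)) (hfix : apW h u = u) :
    emb hQ p h ∈ killed ρ p u := by
  have hR := p.nd hQ
  obtain ⟨b, hb, hub⟩ := hR.exists_partner hu hQu
  let p₁ : HP (restr Q p.W) := ⟨u, b, hQu, hb, hub⟩
  have hd := p₁.finrank_W hR
  have hK : killed₂ ρ hQ p p₁ = ⊤ := by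
    rcases hcase with ⟨hq, -⟩ | h7 | hT
    · obtain ⟨l, hl, hl2⟩ : ∃ l : F, l ≠ 0 ∧ l ^ 2 ≠ 1 := by
        by_contra hne
        push Not at hne
        have hsub : ∀ x : F, x = 0 ∨ x = 1 ∨ x = -1 := fun x => by
          rcases eq_or_ne x 0 with hx | hx
          · exact Or.inl hx
          · exact Or.inr (sq_eq_one_iff.1 (hne x hx))
        have : Nat.card F ≤ 3 := by
          rw [Nat.card_eq_fintype_card, ← Finset.card_univ]
          refine (Finset.card_le_card (t := {0, 1, -1}) fun x _ => ?_).trans Finset.card_le_three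
          simp only [Finset.mem_insert, Finset.mem_singleton]
          exact hsub x
        omega
      exact killed₂_of_large ρ hQ p p₁ hr hl hl2
    · exact killed₂_of_five ρ hQ p p₁ hr (by omega)
    · exact killed₂_of_plane ρ hQ p p₁ hr (hT.perp_pair hR p₁)
  -- remove the translation part
  set b' : p.W := apW h b with hb'
  have hQb' : restr Q p.W b' = 0 := (O.map_app _ _).trans hb
  have hub' : polar (restr Q p.W) u b' = 1 := by
    rw [hb']
    conv_lhs => arg 2; rw [← hfix]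
    exact (O.polar_app _ _ _).trans hub
  have hw : polar (restr Q p.W) u (b - b') = 0 := by
    rw [polar_sub_right, hub, hub', sub_self]
  have hQu' : restr Q p.W u = 0 := hQu
  set t := sg u (b - b') hQu' hw
  set k := t⁻¹ * h with hk
  have ht : apW t b = b' := by
    show ((sie u (b - b') hQu' hw : O (restr Q p.W)) : p.W ≃ₗ[F] p.W) b = b'
    rw [sie_app, hub, qmap_sub, hb, hQb', polar_sub_left, polar_self', hb,
      polar_comm (⇑(restr Q p.W)) b' b]
    match_scalars <;> ring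
  have hku : apW k u = u := by
    show apW t⁻¹ (apW h u) = u
    rw [hfix]
    exact inv_app (sie_fix hQu' hw)
  have hkb : apW k b = b := inv_app ht
  have hkW : ∀ x ∈ p₁.W, apW k x ∈ p₁.W := fun x hx => by
    rw [p₁.mem_W] at hx ⊢
    constructor
    · conv_lhs => arg 2; rw [show p₁.e = apW k p₁.e from hku.symm]
      exact (O.polar_app _ _ _).trans hx.1
    · conv_lhs => arg 2; rw [show p₁.f = apW k p₁.f from hkb.symm]
      exact (O.polar_app _ _ _).trans hx.2
  set g := restrictO (k : O (restr Q p.W)) hkW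
  have hg : extendO hR (p₁.nd hR) g = (k : O (restr Q p.W)) := by
    refine p₁.ext_hp ?_ ?_ fun x hx => ?_
    · rw [extendO_app_perp hR _ g (perp_perp_le _ _ (Submodule.subset_span (Set.mem_insert _ _)))]
      exact hku.symm
    · rw [extendO_app_perp hR _ g (perp_perp_le _ _ (Submodule.subset_span (Or.inr rfl)))]
      exact hkb.symm
    · exact (extendO_app hR _ g ⟨x, hx⟩).trans (restrictO_app _ hkW ⟨x, hx⟩)
  have hgen : reflGroup (restr (restr Q p.W) p₁.W) = ⊤ := by
    rcases hcase with ⟨hq, -⟩ | h7 | hT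
    · exact reflGroup_eq_top (p₁.nd hR) (Or.inl (by omega))
    · exact reflGroup_eq_top (p₁.nd hR) (Or.inr (by omega))
    · exact reflGroup_eq_top_of_type (p₁.nd hR) (hT.perp_pair hR p₁)
  have hgc : g ∈ commutator (O (restr (restr Q p.W) p₁.W)) := by
    refine mem_commutator_of_extend hR (p₁.nd hR) (reflGroup_eq_top hR (Or.inr (by omega))) hgen ?_
    rw [hg, ← sieGroup_eq_commutator hR hW]
    exact k.2
  obtain ⟨p₂⟩ := exists_hp (p₁.nd hR) (by omega)
  have hgs : g ∈ sieGroup (restr (restr Q p.W) p₁.W) := by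
    refine commutator_le_sieGroup (p₁.nd hR) ?_ hgen p₂ hgc
    by_cases h4 : 4 ≤ finrank F p₁.W
    · exact Or.inl h4
    refine Or.inr ⟨?_, by omega⟩
    rcases hcase with ⟨-, h6 | h2⟩ | h7 | hT
    · omega
    · exact h2
    · omega
    · have := hT.finrank_eq hR; omega
  have hkk : k = emb hR p₁ ⟨g, hgs⟩ := Subtype.ext hg.symm
  have hmem : emb hQ p k ∈ killed ρ p u := by
    rw [hkk]
    have : (⟨g, hgs⟩ : sieGroup (restr (restr Q p.W) p₁.W)) ∈ killed₂ ρ hQ p p₁ := by
      rw [hK]; trivial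
    exact (mem_killed₂ ρ hQ p p₁ _).1 this
  have hh : h = t * k := by rw [hk, mul_inv_cancel_left]
  rw [hh, map_mul]
  refine mul_mem ?_ hmem
  rw [emb_sg]
  exact killed_axis ρ p u hQ hr hW hu hQu _

end Cfsg.Agent.H53.OmLow
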