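import Cfsg.Agent.H53.OmLow.Rad

/-!
Weights of the radical pass from a pair to an orthogonal one; a positivity lemma.
-/

set_option autoImplicit false
set_option linter.unusedSectionVars false

namespace Cfsg.Agent.H53.OmLow

open QuadraticMap Module Finset
open Cfsg.Agent.Orthogonal

attribute [local instance] Fintype.ofFinite Classical.propDecidable

variable {F V : Type*} [Field F] [Finite F] [AddCommGroup V] [Module F V] [FiniteDimensional F V]
variable {Q : QuadraticForm F V}

/-- The action of an element. -/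
abbrev ap (g : sieGroup Q) : V ≃ₗ[F] V := (g : O Q)

theorem ap_mul (g h : sieGroup Q) (x : V) : ap (g * h) x = ap g (ap h x) := rfl

theorem ap_one (x : V) : ap (1 : sieGroup Q) x = x := rfl

theorem inv_conj_sg {u w u' w' : V} (hu : Q u = 0) (hw : polar Q u w = 0) (g : sieGroup Q)
    (hu' : ap g u' = u) (hw' : ap g w' = w) :
    sg u w hu hw * g = g * sg u' w' (by rw [← hu', O.map_app] at hu; exact hu)
      (by rw [← hu', ← hw', O.polar_app] at hw; exact hw) := by
  have h1 : Q u' = 0 := by rw [← hu', O.map_app] at hu; exact hu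
  have h2 : polar Q u' w' = 0 := by rw [← hu', ← hw', O.polar_app] at hw; exact hw
  rw [mul_inv_eq_iff_eq_mul.1 (sg_conj h1 h2 g)]
  exact congrArg (· * g) (sg_congr hu'.symm hw'.symm)

theorem sg_fix {u w x : V} (hu : Q u = 0) (hw : polar Q u w = 0) (h1 : polar Q u x = 0)
    (h2 : polar Q w x = 0) : ap (sg u w hu hw) x = x := sie_fix' hu hw h1 h2

theorem HP.qa {p : HP Q} (p' : HP (restr Q p.W)) : Q (p'.e : V) = 0 := p'.he

/-- A pair in the orthogonal of another, as a pair of the whole space. -/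
def HP.lift (p : HP Q) (p' : HP (restr Q p.W)) : HP Q :=
  ⟨(p'.e : V), (p'.f : V), p'.he, p'.hf, by rw [← polar_restr]; exact p'.hef⟩

theorem HP.orth_lift (p : HP Q) (p' : HP (restr Q p.W)) : Orth p (p.lift p') :=
  ⟨p.e_w p'.e, p.e_w p'.f, p.f_w p'.e, p.f_w p'.f⟩

/-- The element moving the first pair to the second one. -/
noncomputable def HP.gg (p : HP Q) (p' : HP (restr Q p.W)) : sieGroup Q :=
  gEl p (p.lift p') (p.orth_lift p')

section gg

variable (p : HP Q) (p' : HP (restr Q p.W))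

theorem gg_e : ap (p.gg p') p.e = (p'.e : V) := gEl_e _
theorem gg_f : ap (p.gg p') p.f = (p'.f : V) := gEl_f _
theorem gg_a : ap (p.gg p') (p'.e : V) = -p.e := gEl_e' (p.orth_lift p')
theorem gg_b : ap (p.gg p') (p'.f : V) = -p.f := gEl_f' (p.orth_lift p')

theorem gg_fix (w : p'.W) : ap (p.gg p') ((w : p.W) : V) = ((w : p.W) : V) :=
  gEl_fix _ (p.e_w w) (p.f_w w) (by show polar Q (p'.e : V) _ = 0; rw [← polar_restr]; exact p'.e_w w)
    (by show polar Q (p'.f : V) _ = 0; rw [← polar_restr]; exact p'.f_w w)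

theorem gg_conj_fix {k : sieGroup Q} (he : ap k p.e = p.e) (hf : ap k p.f = p.f)
    (ha : ap k (p'.e : V) = (p'.e : V)) (hb : ap k (p'.f : V) = (p'.f : V)) :
    k * p.gg p' = p.gg p' * k := by
  rw [← mul_inv_eq_iff_eq_mul]
  have e1 : ap k (-(p'.f : V)) = -(p'.f : V) := by rw [map_neg, hb]
  rw [HP.gg, gEl, conj_mul.symm, conj_mul.symm, sg_conj, sg_conj]
  exact congrArg₂ (· * ·) (congrArg₂ (· * ·) (sg_congr ha hf) (sg_congr he e1)) (sg_congr ha hf)

end gg

theorem polar_W' (p : HP Q) (p' : HP (restr Q p.W)) (w : p'.W) :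
    polar Q (p'.e : V) ((w : p.W) : V) = 0 := by rw [← polar_restr]; exact p'.e_w w

/-- A vector of the orthogonal pinned down by its products. -/
theorem eq_add_smul (hQ : Nondeg Q) (p : HP Q) (p' : HP (restr Q p.W)) {u : p.W} {w : p'.W}
    (h1 : polar Q (u : V) (p'.e : V) = 0)
    (h2 : ∀ t : p'.W, polar Q (u : V) ((t : p.W) : V) = polar Q ((w : p.W) : V) ((t : p.W) : V)) :
    u = (w : p.W) + polar Q (p'.f : V) (u : V) • p'.e := by
  have hr := p'.split u
  have h1' : polar (restr Q p.W) p'.e u = 0 := by rw [polar_restr, polar_comm]; exact h1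
  rw [h1', zero_smul, sub_zero, polar_restr] at hr
  have key : (⟨_, hr⟩ : p'.W) = w := by
    refine (p'.nd (p.nd hQ)).eq_of_polar fun t => ?_
    rw [polar_restr, polar_restr, polar_restr, polar_restr, Submodule.coe_sub, Submodule.coe_smul,
      polar_sub_left, polar_smul_left', h2 t, polar_W' p p' t, mul_zero, sub_zero]
  rw [← key]
  exact (sub_add_cancel u _).symm

theorem qval (p : HP Q) (p' : HP (restr Q p.W)) (w : p'.W) (x : F) :
    Q (((w : p.W) + x • p'.e : p.W) : V) = Q ((w : p.W) : V) := by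
  rw [Submodule.coe_add, Submodule.coe_smul, map_add_polar, qmap_smul,
    HP.qa p', polar_smul_right', polar_comm, polar_W' p p' w]
  ring

theorem add_smul_ne_zero (p : HP Q) (p' : HP (restr Q p.W)) {w : p'.W} (hw : w ≠ 0) (x : F) :
    (w : p.W) + x • p'.e ≠ 0 := by
  intro h
  have h1 := congrArg (polar (restr Q p.W) p'.f) h
  rw [polar_zero_right, polar_add_right, polar_smul_right', p'.f_w, p'.hfe, zero_add, mul_one] at h1
  subst h1
  rw [zero_smul, add_zero] at h
  exact hw (Subtype.ext h)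

variable {M : Type*} [AddCommGroup M] [Module ℂ M] (ρ : Representation ℂ (sieGroup Q) M)

theorem map_inv_apply_eq (g : sieGroup Q) (z : M) : ρ g⁻¹ (ρ g z) = z := by
  rw [← Module.End.mul_apply, ← map_mul, inv_mul_cancel, map_one, Module.End.one_apply]

theorem map_apply_inv_eq (g : sieGroup Q) (z : M) : ρ g (ρ g⁻¹ z) = z := by
  rw [← Module.End.mul_apply, ← map_mul, mul_inv_cancel, map_one, Module.End.one_apply]

theorem wP_eq_self_of_eigen (p : HP Q) (u : p.W) {z : M}
    (h : ∀ w, ρ (xr p w) z = chi p u w • z) : wP ρ p u z = z := by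
  simp only [wP, LinearMap.smul_apply, LinearMap.sum_apply, h, smul_smul, ← AddChar.map_add_eq_mul,
    neg_add_cancel, AddChar.map_zero_eq_one, one_smul]
  rw [Finset.sum_const, Finset.card_univ, ← Nat.cast_smul_eq_nsmul ℂ, smul_smul,
    inv_mul_cancel₀ (card_W_ne_zero p), one_smul]

/-- The fixed space of the radical, as a representation of the orthogonal of the pair. -/
noncomputable def cSub (hQ : Nondeg Q) (p : HP Q) :
    Subrepresentation (MonoidHom.comp ρ (emb hQ p) : Representation ℂ (sieGroup (restr Q p.W)) M) where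
  toSubmodule := LinearMap.range (wP ρ p 0)
  apply_mem_toSubmodule h v hv := by
    obtain ⟨x, rfl⟩ := hv
    refine ⟨ρ (emb hQ p h) x, ?_⟩
    have e := LinearMap.congr_fun (emb_conj_wP ρ p hQ h 0) x
    rw [map_zero] at e
    exact e.symm

/-- The carrier of the fixed space. -/
noncomputable abbrev Cs (p : HP Q) : Submodule ℂ M := LinearMap.range (wP ρ p 0)

/-- The representation on the fixed space. -/
noncomputable def cRep (hQ : Nondeg Q) (p : HP Q) :
    Representation ℂ (sieGroup (restr Q p.W)) (Cs ρ p) :=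
  (cSub ρ hQ p).toRepresentation

theorem cRep_apply (hQ : Nondeg Q) (p : HP Q) (h : sieGroup (restr Q p.W)) (z : Cs ρ p) :
    (cRep ρ hQ p h z : M) = ρ (emb hQ p h) z := rfl

theorem mem_Cs {p : HP Q} {z : M} : z ∈ Cs ρ p ↔ wP ρ p 0 z = z := by
  constructor
  · rintro ⟨x, rfl⟩; exact wP_idem_apply ρ p 0 x
  · intro h; exact ⟨z, h⟩

theorem Cs_fixed {p : HP Q} (z : Cs ρ p) (w : p.W) : ρ (xr p w) (z : M) = z :=
  (wP_zero_eq_self_iff ρ p).1 ((mem_Cs ρ).1 z.2) w

theorem cRep_xr (hQ : Nondeg Q) (p : HP Q) (p' : HP (restr Q p.W)) (t : p'.W) (z : Cs ρ p) :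
    (cRep ρ hQ p (xr p' t) z : M) =
      ρ (sg (p'.e : V) ((t : p.W) : V) (HP.qa p') (polar_W' p p' t)) z := by
  rw [cRep_apply, xr, emb_sg]

theorem chi_restr (p : HP Q) (p' : HP (restr Q p.W)) (w t : p'.W) :
    chi p' w t = chi p (w : p.W) (t : p.W) := by
  rw [chi_apply, chi_apply, polar_restr]

/-! ### The two directions of inheritance -/

section Inherit

variable (hQ : Nondeg Q) (p : HP Q) (p' : HP (restr Q p.W))

/-- From a weight vector in the fixed space. -/
theorem inherit_back {w : p'.W} (z : Cs ρ p)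
    (hz : ∀ t : p'.W, cRep ρ hQ p (xr p' t) z = chi p' w t • z) :
    (∀ u : p.W, wP ρ p u (ρ (p.gg p')⁻¹ z) ≠ 0 → ∃ x : F, u = (w : p.W) + x • p'.e) ∧
      ∀ t : p'.W, ρ (sg (p'.e : V) ((t : p.W) : V) (HP.qa p') (polar_W' p p' t)) (ρ (p.gg p')⁻¹ z) =
        ρ (p.gg p')⁻¹ z := by
  set g := p.gg p' with hg
  have swap : ∀ {A : sieGroup Q} {B : sieGroup Q}, A * g⁻¹ = g⁻¹ * B →
      ρ A (ρ g⁻¹ z) = ρ g⁻¹ (ρ B z) := fun h => by
    rw [← Module.End.mul_apply, ← map_mul, h, map_mul, Module.End.mul_apply]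
  refine ⟨fun u hu => ⟨_, eq_add_smul hQ p p' ?_ fun t => ?_⟩, fun t => ?_⟩
  · refine polar_eq_zero_of_fixed ρ p (fun x => ?_) hu
    rw [xr, swap (inv_conj_sg _ _ g⁻¹ (u' := (p'.e : V)) (w' := -(x • p.e))
      (inv_app (gg_e p p')) (by
        refine inv_app ?_
        rw [Submodule.coe_smul, map_smul, gg_a, smul_neg]))]
    have e : sg (p'.e : V) (-(x • p.e)) (HP.qa p')
        (by rw [polar_neg_right, polar_smul_right', p.w_e, mul_zero, neg_zero]) = xr p (x • p'.e) :=
      Subtype.ext (O.ext_app fun y => by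
        simp only [xr, sg_val, sie_app, polar_smul_left', polar_neg_left, Submodule.coe_smul,
          QuadraticMap.map_neg, qmap_smul, HP.qa p', p.he, mul_zero, zero_mul]
        module)
    rw [e, Cs_fixed]
  · refine polar_eq_of_eigen ρ p (v := (w : p.W)) (fun x => ?_) hu
    refine (swap (inv_conj_sg _ _ g⁻¹ (u' := (p'.e : V)) (w' := (((x • t : p'.W) : p.W) : V))
      (inv_app (gg_e p p')) (inv_app (gg_fix p p' (x • t))))).trans ?_
    rw [← cRep_xr ρ hQ p p', hz (x • t), Submodule.coe_smul, map_smul, chi_restr]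
    rfl
  · refine (swap (inv_conj_sg _ _ g⁻¹ (u' := -p.e) (w' := ((t : p.W) : V))
      (inv_app (gg_a p p')) (inv_app (gg_fix p p' t)))).trans ?_
    rw [show sg (-p.e) ((t : p.W) : V) (by rw [QuadraticMap.map_neg, p.he])
        (by rw [polar_neg_left, p.e_w, neg_zero]) = xr p (-(t : p.W)) from Subtype.ext
      (O.ext_app fun y => by
        simp only [xr, sg_val, sie_app, polar_neg_left, Submodule.coe_neg, QuadraticMap.map_neg]
        module), Cs_fixed]

/-- Into the fixed space. -/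
theorem inherit_fwd {w : p'.W} (hw : w ≠ 0) {m : M}
    (hstab : ∀ (x : F) (t : p'.W) (z : M), x ≠ 0 →
      ρ (sg (p'.e : V) ((t : p.W) : V) (HP.qa p') (polar_W' p p' t)) (wP ρ p (x • p'.e) z) =
        wP ρ p (x • p'.e) z)
    (hsupp : ∀ u : p.W, wP ρ p u m ≠ 0 → ∃ x : F, u = (w : p.W) + x • p'.e)
    (hfix : ∀ t : p'.W, ρ (sg (p'.e : V) ((t : p.W) : V) (HP.qa p') (polar_W' p p' t)) m = m) :
    ∃ h : ρ (p.gg p') m ∈ Cs ρ p, ∀ t : p'.W,
      cRep ρ hQ p (xr p' t) ⟨_, h⟩ = chi p' w t • (⟨_, h⟩ : Cs ρ p) := by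
  set g := p.gg p' with hg
  set z := ρ g m with hzdef
  have swap : ∀ {A : sieGroup Q} {B : sieGroup Q}, A * g = g * B → ρ A z = ρ g (ρ B m) := fun h => by
    rw [hzdef, ← Module.End.mul_apply, ← map_mul, h, map_mul, Module.End.mul_apply]
  have hm : ∀ (v : p.W), (∀ u : p.W, wP ρ p u m ≠ 0 → polar Q (u : V) (v : V) = 0) →
      ρ (xr p v) m = m := fun v hv => by
    conv_lhs => rw [← sum_wP_apply ρ p hQ m, map_sum]
    conv_rhs => rw [← sum_wP_apply ρ p hQ m]
    refine Finset.sum_congr rfl fun u _ => ?_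
    rw [xr_mul_wP_apply]
    by_cases hu : wP ρ p u m = 0
    · rw [hu, smul_zero]
    · rw [chi_apply, hv u hu, AddChar.map_zero_eq_one, one_smul]
  have heig : ∀ t : p'.W, ρ (sg (p'.e : V) ((t : p.W) : V) (HP.qa p') (polar_W' p p' t)) z =
      chi p' w t • z := fun t => by
    rw [swap (inv_conj_sg _ _ g (u' := p.e) (w' := ((t : p.W) : V)) (gg_e p p') (gg_fix p p' t))]
    have : ρ (xr p (t : p.W)) m = chi p' w t • m := by
      conv_lhs => rw [← sum_wP_apply ρ p hQ m, map_sum]
      conv_rhs => rw [← sum_wP_apply ρ p hQ m, Finset.smul_sum]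
      refine Finset.sum_congr rfl fun u _ => ?_
      rw [xr_mul_wP_apply]
      by_cases hu : wP ρ p u m = 0
      · rw [hu, smul_zero, smul_zero]
      · obtain ⟨x, rfl⟩ := hsupp u hu
        rw [chi_restr, chi_apply, chi_apply, Submodule.coe_add, Submodule.coe_smul, polar_add_left,
          polar_smul_left', polar_W' p p' t, mul_zero, add_zero]
    show ρ g (ρ (xr p (t : p.W)) m) = _
    rw [this, map_smul]
  have hmem : z ∈ Cs ρ p := by
    rw [mem_Cs]
    conv_rhs => rw [← sum_wP_apply ρ p hQ z]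
    rw [Finset.sum_eq_single (0 : p.W) (fun u _ hu0 => ?_) (by simp)]
    by_contra hne
    have h1 : polar Q (u : V) (p'.e : V) = 0 := by
      refine polar_eq_zero_of_fixed ρ p (fun x => ?_) hne
      rw [xr, swap (inv_conj_sg _ _ g (u' := -(p'.e : V)) (w' := x • p.e)
        (by rw [map_neg, gg_a, neg_neg]) (by rw [map_smul, gg_e, Submodule.coe_smul]))]
      have e : sg (-(p'.e : V)) (x • p.e) (by rw [QuadraticMap.map_neg]; exact HP.qa p')
          (by rw [polar_neg_left, polar_smul_right', p.w_e, mul_zero, neg_zero]) = xr p (x • p'.e) :=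
        Subtype.ext (O.ext_app fun y => by
          simp only [xr, sg_val, sie_app, polar_smul_left', polar_neg_left, Submodule.coe_smul,
            qmap_smul, HP.qa p', p.he, mul_zero, zero_mul]
          module)
      rw [e, hm _ fun v hv => ?_]
      obtain ⟨y, rfl⟩ := hsupp v hv
      rw [Submodule.coe_add, Submodule.coe_smul, Submodule.coe_smul, polar_smul_right',
        polar_add_left, polar_smul_left', polar_comm, polar_W' p p' w, polar_self',
        HP.qa p']
      ring
    have h2 : ∀ t : p'.W, polar Q (u : V) ((t : p.W) : V) = 0 := fun t => by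
      refine polar_eq_zero_of_fixed ρ p (w := (t : p.W)) (fun x => ?_) hne
      refine (swap (inv_conj_sg _ _ g (u' := -(p'.e : V)) (w' := (((x • t : p'.W) : p.W) : V))
        (by rw [map_neg, gg_a, neg_neg]) (gg_fix p p' (x • t)))).trans ?_
      have e : sg (-(p'.e : V)) (((x • t : p'.W) : p.W) : V) (by rw [QuadraticMap.map_neg]; exact HP.qa p')
          (by rw [polar_neg_left, polar_W' p p', neg_zero]) =
            sg (p'.e : V) (((-(x • t) : p'.W) : p.W) : V) (HP.qa p') (polar_W' p p' _) :=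
        Subtype.ext (O.ext_app fun y => by
          simp only [sg_val, sie_app, polar_neg_left, Submodule.coe_neg, QuadraticMap.map_neg]
          module)
      rw [e, hfix]
    have hu := eq_add_smul hQ p p' (u := u) (w := (0 : p'.W)) h1 fun t => by
      rw [h2 t]; simp
    rw [Submodule.coe_zero, zero_add] at hu
    have hx : polar Q (p'.f : V) (u : V) ≠ 0 := fun e => hu0 (by rw [hu, e, zero_smul])
    refine hne ?_
    obtain ⟨t, ht⟩ : ∃ t : p'.W, chi p' w t ≠ 1 := by
      obtain ⟨t, ht⟩ := AddChar.ne_zero_iff.1 (chi_ne_zero (p.nd hQ) p' hw)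
      exact ⟨t, ht⟩
    set k := sg (p'.e : V) ((t : p.W) : V) (HP.qa p') (polar_W' p p' t)
    have hkW : ∀ x ∈ p.W, ap k x ∈ p.W := fun x hx => by
      show ((k : O Q) : V ≃ₗ[F] V) x ∈ p.W
      rw [show ((k : O Q)) = sie (p'.e : V) ((t : p.W) : V) (HP.qa p') (polar_W' p p' t) from rfl, sie_app]
      exact p.W.sub_mem (p.W.add_mem hx (p.W.smul_mem _ p'.e.2)) (p.W.smul_mem _ (t : p.W).2)
    have hconj : ρ k * wP ρ p u = wP ρ p u * ρ k := conj_wP ρ p one_ne_zero
      (by rw [one_smul]; exact sg_fix _ _ (p.w_e _) (p.w_e _)) hkW (by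
        rw [inv_one, one_smul]
        refine (sg_fix _ _ ?_ ?_).symm
        · rw [polar_comm]; exact h1
        · rw [polar_comm]; exact h2 t)
    have e1 : ρ k (wP ρ p u z) = chi p' w t • wP ρ p u z := by
      rw [← Module.End.mul_apply, hconj, Module.End.mul_apply, heig, map_smul]
    rw [hu, hstab _ _ _ hx, ← hu] at e1
    by_contra h
    exact ht (smul_left_injective ℂ h (by simpa using e1.symm))
  refine ⟨hmem, fun t => Subtype.ext ?_⟩
  rw [cRep_xr ρ hQ p p' t, Submodule.coe_smul]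
  exact heig t

end Inherit

end Cfsg.Agent.H53.OmLow
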