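import Cfsg.Agent.H53.OmLow.Chain
import Cfsg.Agent.H53.OmLow.StabH
import Cfsg.Agent.Orthogonal.POmega

/-!
The possible weights of a non-trivial representation.
-/

set_option autoImplicit false
set_option linter.unusedSectionVars false

namespace Cfsg.Agent.H53.OmLow

open QuadraticMap Module Finset
open Cfsg.Agent.Orthogonal

attribute [local instance] Fintype.ofFinite Classical.propDecidable

section

variable {F V : Type*} [Field F] [Finite F] [AddCommGroup V] [Module F V] [FiniteDimensional F V]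
variable {Q : QuadraticForm F V}
variable {M : Type*} [AddCommGroup M] [Module ℂ M] [FiniteDimensional ℂ M]
variable (ρ : Representation ℂ (sieGroup Q) M) (hQ : Nondeg Q) (p : HP Q)

include hQ

/-- If only the zero weight occurs then the representation is trivial. -/
theorem trivial_of_no_weight (hn : 3 ≤ finrank F V) (h : ∀ u : p.W, u ≠ 0 → mult ρ p u = 0) :
    ∀ g : sieGroup Q, ρ g = 1 := by
  have hx : ∀ (w : p.W), ρ (xr p w) = 1 := by
    intro w
    refine LinearMap.ext fun z => ?_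
    have h0 : wP ρ p 0 z = z := by
      conv_rhs => rw [← sum_wP_apply ρ p hQ z]
      exact (Finset.sum_eq_single (0 : p.W)
        (fun u _ hu => (mult_eq_zero_iff ρ p u).1 (h u hu) z) (by simp)).symm
    rw [Module.End.one_apply]
    exact (wP_zero_eq_self_iff ρ p).1 h0 w
  have hgen : ∀ (u w : V) (hu : Q u = 0) (hw : polar Q u w = 0), ρ (sg u w hu hw) = 1 := by
    intro u w hu hw
    rcases eq_or_ne u 0 with rfl | hu0
    · rw [sg_zero_left, map_one]
    obtain ⟨g, hg, s, hs, hgs⟩ := exists_sie_point hQ hn hu0 p.e_ne hu p.he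
    set g' : sieGroup Q := ⟨g, hg⟩
    have hew : polar Q (s • p.e) ((g : V ≃ₗ[F] V) w) = 0 := by rw [← hgs, O.polar_app, hw]
    have hew' : polar Q p.e (s • (g : V ≃ₗ[F] V) w) = 0 := by
      rwa [polar_smul_right', ← polar_smul_left']
    have hz := p.split (s • (g : V ≃ₗ[F] V) w)
    rw [hew', zero_smul, sub_zero] at hz
    have e1 : g' * sg u w hu hw * g'⁻¹ = xr p ⟨_, hz⟩ := by
      rw [sg_conj]
      refine Subtype.ext ?_
      simp only [sg_val, xr]
      rw [sie_congr _ _ (p.qe s) hew hgs rfl,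
        sie_smul p.he ((mul_eq_zero.1 (by rwa [polar_smul_left'] at hew)).resolve_left hs)]
      refine (sie_add_smul p.he hew' (-polar Q p.f (s • (g : V ≃ₗ[F] V) w))).symm.trans ?_
      exact sie_congr _ _ _ _ rfl (by rw [neg_smul, ← sub_eq_add_neg])
    have e2 : sg u w hu hw = g'⁻¹ * xr p ⟨_, hz⟩ * g' := by rw [← e1]; group
    rw [e2, map_mul, map_mul, hx, mul_one, ← map_mul, inv_mul_cancel, map_one]
  rintro ⟨g, hg⟩
  have hle : sieGroup Q ≤ (MonoidHom.ker ρ).map (Subgroup.subtype _) := by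
    refine (Subgroup.closure_le _).2 ?_
    rintro y ⟨u, w, hu, hw, rfl⟩
    exact ⟨sg u w hu hw, hgen u w hu hw, rfl⟩
  obtain ⟨g', hg', e⟩ := hle hg
  rw [show (⟨g, hg⟩ : sieGroup Q) = g' from Subtype.ext e.symm]
  exact hg'

/-- The possible shapes of the non-zero weights. -/
theorem weight_cases (hW : 5 ≤ finrank F p.W)
    (hcase : (3 < Nat.card F ∧ (6 ≤ finrank F p.W ∨ (2 : F) ≠ 0)) ∨ 7 ≤ finrank F p.W ∨
      HasType (restr Q p.W) 2 2)
    (hne : ∃ u : p.W, u ≠ 0 ∧ mult ρ p u ≠ 0) :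
    (∃ c₁ c₂, (sph p c₁).card + (sph p c₂).card ≤ finrank ℂ M) ∨ HypS ρ hQ p ∨
      (Nat.card F ≤ 3 ∧ ∃ c : F, c ≠ 0 ∧ (sph p c).card ≤ finrank ℂ M ∧
        (7 ≤ finrank F p.W → HypW ρ p c)) := by
  obtain ⟨u₀, hu₀, hm₀⟩ := hne
  set c := Q (u₀ : V) with hc
  have h1 : 1 ≤ mult ρ p u₀ := Nat.one_le_iff_ne_zero.2 hm₀
  by_cases h2 : 2 ≤ mult ρ p u₀
  · exact Or.inl (two_orbits ρ p hQ hW hu₀ hu₀ rfl rfl h1 h1 (Or.inr h2))
  by_cases hother : ∃ u : p.W, u ≠ 0 ∧ mult ρ p u ≠ 0 ∧ Q (u : V) ≠ c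
  · obtain ⟨u, hu, hm, hcu⟩ := hother
    exact Or.inl (two_orbits ρ p hQ hW hu₀ hu rfl rfl h1 (Nat.one_le_iff_ne_zero.2 hm)
      (Or.inl hcu.symm))
  push Not at hother
  have hone : ∀ u : p.W, u ≠ 0 → Q (u : V) = c → mult ρ p u = 1 := fun u hu hQu => by
    rw [mult_eq_of_norm ρ p hQ hW hu hu₀ hQu]; omega
  have hrank : ∀ u : p.W, u ≠ 0 → mult ρ p u ≤ 1 := fun u hu => by
    by_cases hQu : Q (u : V) = c
    · exact (hone u hu hQu).le
    · exact (le_of_eq (not_not.1 fun h => hQu (hother u hu h))).trans zero_le_one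
  have hne' : ∀ u : p.W, u ≠ 0 → Q (u : V) = c → ∃ z, wP ρ p u z ≠ 0 := fun u hu hQu => by
    by_contra hz
    push Not at hz
    have := (mult_eq_zero_iff ρ p u).2 hz
    rw [hone u hu hQu] at this
    exact one_ne_zero this
  have hzero : ∀ u : p.W, u ≠ 0 → Q (u : V) ≠ c → ∀ z, wP ρ p u z = 0 := fun u hu hQu =>
    (mult_eq_zero_iff ρ p u).1 (not_not.1 fun h => hQu (hother u hu h))
  by_cases hc0 : c = 0
  · refine Or.inr (Or.inl ?_)
    rw [hc0] at hne' hzero
    have hstab : ∀ u : p.W, u ≠ 0 → Q (u : V) = 0 → ∀ h : sieGroup (restr Q p.W), apW h u = u →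
        ∀ z, ρ (emb hQ p h) (wP ρ p u z) = wP ρ p u z := fun u hu hQu h hfix =>
      stab_singular ρ hQ p hW hcase u hu hQu (hrank u hu) h hfix
    refine { ne := hne', zero := hzero, stabE := ?_, stab := hstab }
    intro u hu a t ha hat hau htu z
    by_cases hQu : Q (u : V) = 0
    · have ha' : restr Q p.W a = 0 := ha
      have hat' : polar (restr Q p.W) a t = 0 := by rw [polar_restr]; exact hat
      rw [← emb_sg hQ p ha' hat']
      exact hstab u hu hQu _ (sie_fix' ha' hat' (by rw [polar_restr]; exact hau)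
        (by rw [polar_restr]; exact htu)) z
    · rw [hzero u hu hQu z, map_zero]
  · have hq : Nat.card F ≤ 3 ∨ ∃ u : p.W, u ≠ 0 ∧ mult ρ p u ≠ 0 ∧ Q (u : V) ≠ c := by
      by_cases hq : Nat.card F ≤ 3
      · exact Or.inl hq
      right
      obtain ⟨l, hl, hl2⟩ : ∃ l : F, l ≠ 0 ∧ l ^ 2 ≠ 1 := by
        by_contra hne
        push Not at hne
        refine hq ?_
        rw [Nat.card_eq_fintype_card, ← Finset.card_univ]
        refine (Finset.card_le_card (t := {0, 1, -1}) fun x _ => ?_).trans Finset.card_le_three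
        simp only [Finset.mem_insert, Finset.mem_singleton]
        rcases eq_or_ne x 0 with hx | hx
        · exact Or.inl hx
        · exact Or.inr (sq_eq_one_iff.1 (hne x hx))
      refine ⟨l • u₀, smul_ne_zero hl hu₀, ?_, ?_⟩
      · rw [mult_smul ρ p hQ hW u₀ hl]; exact hm₀
      · rw [Submodule.coe_smul, qmap_smul, ← hc]
        exact fun e => hl2 (mul_right_cancel₀ hc0 (e.trans (one_mul c).symm))
    rcases hq with hq | ⟨u, hu, hm, hcu⟩
    · refine Or.inr (Or.inr ⟨hq, c, hc0, ?_, fun h7 =>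
        ⟨hne', hzero, fun u hu a t ha hat hau htu z =>
          stabE_nonsingular ρ p u hQ (hrank u hu) h7 ha hat hau htu z⟩⟩)
      have := mul_card_add_le ρ hQ p (r := 1) (sph p c) (by simp [mem_sph]) fun x hx =>
        (hone x (mem_sph.1 hx).1 (mem_sph.1 hx).2).ge
      omega
    · exact absurd (hother u hu hm) hcu

end

/-- Irreducible representations of the Omega group give non-trivial ones of the Eichler group. -/
theorem exists_rep {F : Type*} [Field F] [Finite F] {ι : Type} [Fintype ι] [DecidableEq ι]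
    (Q : QuadraticForm F (ι → F)) (hQ : Nondeg Q) (hn : 5 ≤ finrank F (ι → F)) {k : ℕ}
    (ρ : Representation ℂ (Cfsg.Omega F (⇑Q)) (Fin k → ℂ)) (hρ : ρ.IsIrreducible) (hk : 2 ≤ k) :
    ∃ ρ' : Representation ℂ (sieGroup Q) (Fin k → ℂ), ∀ p : HP Q,
      ∃ u : p.W, u ≠ 0 ∧ mult ρ' p u ≠ 0 := by
  let e : sieGroup Q ≃* Cfsg.Omega F (⇑Q) :=
    (MulEquiv.subgroupCongr (sieGroup_eq_commutator hQ hn)).trans (omegaEquiv Q).symm
  refine ⟨MonoidHom.comp ρ e.toMonoidHom, fun p => ?_⟩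
  by_contra hne
  push Not at hne
  have htriv := trivial_of_no_weight (MonoidHom.comp ρ e.toMonoidHom) hQ p (by omega) hne
  have h1 : ∀ g, ρ g = 1 := fun g => by
    have := htriv (e.symm g)
    rwa [MonoidHom.comp_apply, MulEquiv.toMonoidHom_eq_coe, MonoidHom.coe_coe,
      e.apply_symm_apply] at this
  have hdim : finrank ℂ (Fin k → ℂ) = k := Module.finrank_fin_fun ℂ
  have : Nontrivial (Fin k → ℂ) := Module.nontrivial_of_finrank_pos (R := ℂ) (by omega)
  obtain ⟨x, hx⟩ := exists_ne (0 : Fin k → ℂ)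
  let S : Subrepresentation ρ :=
    ⟨Submodule.span ℂ {x}, fun g v hv => by rw [h1 g]; exact hv⟩
  rcases IsSimpleOrder.eq_bot_or_eq_top S with e | e
  · have h2 : Submodule.span ℂ {x} = ⊥ := congrArg Subrepresentation.toSubmodule e
    rw [Submodule.span_singleton_eq_bot] at h2
    exact hx h2
  · have h2 : Submodule.span ℂ {x} = (⊤ : Submodule ℂ (Fin k → ℂ)) :=
      congrArg Subrepresentation.toSubmodule e
    have h3 := finrank_span_singleton (K := ℂ) hx
    rw [h2, finrank_top] at h3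
    omega

end Cfsg.Agent.H53.OmLow
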